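import Groth.Agent.Lambda.Universal
import Mathlib.RingTheory.MvPolynomial.WeightedHomogeneous

/-!
Existence of the universal polynomials `P_n`, `Q_{i,j}`.
-/

universe u v

open Finset MvPolynomial LambdaRing

namespace Groth.Agent.Lambda

theorem isWeightedHomogeneous_aeval {σ τ M R : Type*} [AddCommMonoid M] [CommRing R] {w : σ → M}
    {w' : τ → M} {g : σ → MvPolynomial τ R} (hg : ∀ i, IsWeightedHomogeneous w' (g i) (w i))
    {p : MvPolynomial σ R} {m : M} (hp : IsWeightedHomogeneous w p m) :
    IsWeightedHomogeneous w' (aeval g p) m := by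
  rw [aeval_def, eval₂_eq]
  refine IsWeightedHomogeneous.sum _ _ _ fun d hd => ?_
  rw [algebraMap_eq, ← hp (mem_support_iff.mp hd), Finsupp.weight_apply, Finsupp.sum]
  exact (IsWeightedHomogeneous.prod _ _ _ fun i _ => (hg i).pow (d i)).C_mul _

theorem component_aeval {σ τ M R : Type*} [AddCommMonoid M] [CommRing R] {w : σ → M}
    {w' : τ → M} {g : σ → MvPolynomial τ R} (hg : ∀ i, IsWeightedHomogeneous w' (g i) (w i))
    (p : MvPolynomial σ R) (m : M) :
    aeval g (weightedHomogeneousComponent w m p) =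
      weightedHomogeneousComponent w' m (aeval g p) := by
  classical
  induction p using MvPolynomial.induction_on' with
  | add p q hp hq => simp only [map_add, hp, hq]
  | monomial d r =>
    have h1 : IsWeightedHomogeneous w (monomial d r) (Finsupp.weight w d) :=
      isWeightedHomogeneous_monomial w d r rfl
    rw [weightedHomogeneousComponent_of_mem h1,
      weightedHomogeneousComponent_of_mem (isWeightedHomogeneous_aeval hg h1)]
    split_ifs <;> simp

theorem isWeightedHomogeneous_esymm {ι τ M R : Type*} [AddCommMonoid M] [CommRing R] {w' : τ → M}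
    (s : Finset ι) (f : ι → MvPolynomial τ R) (m : M)
    (hf : ∀ a ∈ s, IsWeightedHomogeneous w' (f a) m) (k : ℕ) :
    IsWeightedHomogeneous w' ((s.val.map f).esymm k) (k • m) := by
  rw [Finset.esymm_map_val]
  refine IsWeightedHomogeneous.sum _ _ _ fun t ht => ?_
  rw [Finset.mem_powersetCard] at ht
  have := IsWeightedHomogeneous.prod (w := w') t f (fun _ => m) fun a ha => hf a (ht.1 ha)
  rwa [Finset.sum_const, ht.2] at this

theorem map_aeval {σ τ A B : Type*} [CommRing A] [CommRing B] (f : A →+* B)
    (g : σ → MvPolynomial τ A) (p : MvPolynomial σ A) :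
    map f (aeval g p) = aeval (fun i => map f (g i)) (map f p) := by
  induction p using MvPolynomial.induction_on with
  | C a => simp [algebraMap_eq]
  | add p q hp hq => simp only [map_add, hp, hq]
  | mul_X p i hp => simp only [map_mul, aeval_X, map_X, hp]

/-- A polynomial symmetric in two families is a polynomial in the elementary symmetric functions. -/
theorem exists_aeval_esymm₂ {R : Type u} [CommRing R] {n : ℕ}
    (g : MvPolynomial (Fin n ⊕ Fin n) R)
    (h : ∀ σ τ : Equiv.Perm (Fin n), rename (Sum.map σ τ) g = g) :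
    ∃ p : MvPolynomial (Fin n ⊕ Fin n) R, aeval (R := R) (Sum.elim
      (fun i : Fin n => rename Sum.inl (esymm (Fin n) R (i.1 + 1)))
      (fun i : Fin n => rename (Sum.inr : Fin n → Fin n ⊕ Fin n) (esymm (Fin n) R (i.1 + 1)))) p = g := by
  let e := sumAlgEquiv R (Fin n) (Fin n)
  have h1 : ∀ σ : Equiv.Perm (Fin n), ∀ p, e (rename (Sum.map σ id) p) = rename σ (e p) := by
    intro σ p
    have : e.toAlgHom.comp (rename (Sum.map σ id)) =
        ((rename σ).restrictScalars R).comp e.toAlgHom := by
      refine MvPolynomial.algHom_ext fun z => ?_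
      rcases z with i | i <;> simp [e]
    exact AlgHom.congr_fun this p
  have h2 : ∀ τ : Equiv.Perm (Fin n), ∀ p, e (rename (Sum.map id τ) p) =
      map (rename (τ : Fin n → Fin n)).toRingHom (e p) := by
    intro τ p
    have : e.toAlgHom.comp (rename (Sum.map id τ)) =
        (mapAlgHom (rename (τ : Fin n → Fin n))).comp e.toAlgHom := by
      refine MvPolynomial.algHom_ext fun z => ?_
      rcases z with i | i <;> simp [e]
    exact AlgHom.congr_fun this p
  have hs : (e g).IsSymmetric := fun σ => by
    rw [← h1, show rename (Sum.map σ id) g = g from h σ 1]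
  obtain ⟨Q₀, hQ₀⟩ := esymmAlgHom_surjective (MvPolynomial (Fin n) R) (σ := Fin n) (n := n)
    (by simp) ⟨e g, hs⟩
  have hQ : aeval (R := MvPolynomial (Fin n) R)
      (fun i : Fin n => esymm (Fin n) (MvPolynomial (Fin n) R) (i.1 + 1)) Q₀ = e g := by
    rw [← esymmAlgHom_apply, hQ₀]
  have hc : ∀ τ : Equiv.Perm (Fin n), map (rename (τ : Fin n → Fin n)).toRingHom Q₀ = Q₀ := by
    intro τ
    apply aeval_esymm_injective (MvPolynomial (Fin n) R) n
    rw [hQ]
    conv_rhs => rw [← show rename (Sum.map id τ) g = g from h 1 τ, h2, ← hQ, map_aeval]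
    simp only [map_esymm]
  obtain ⟨Q₁, hQ₁⟩ : Q₀ ∈ Set.range
      (map (σ := Fin n) (aeval (R := R) fun i : Fin n => esymm (Fin n) R (i.1 + 1)).toRingHom) := by
    rw [mem_range_map_iff_coeffs_subset]
    intro c hc'
    obtain ⟨d, -, rfl⟩ := mem_coeffs_iff.mp hc'
    have hsym : (coeff d Q₀).IsSymmetric := fun τ => by
      conv_rhs => rw [← hc τ, coeff_map]
      rfl
    obtain ⟨q, hq⟩ := esymmAlgHom_surjective R (σ := Fin n) (n := n) (by simp) ⟨_, hsym⟩
    refine ⟨q, ?_⟩
    change aeval _ q = _
    rw [← esymmAlgHom_apply, hq]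
  refine ⟨e.symm Q₁, e.injective ?_⟩
  rw [sum_aeval_esymm, AlgEquiv.apply_symm_apply, hQ₁, hQ]

theorem exists_isMulPoly (n : ℕ) : ∃ P : MvPolynomial (Fin n ⊕ Fin n) ℤ, IsMulPoly n P := by
  obtain ⟨P, hP⟩ := exists_aeval_esymm₂ (mulGen n n) fun σ τ => by
    change (rename (Sum.map σ τ)).toRingHom (mulGen n n) = _
    rw [mulGen, map_esymm', Multiset.map_map]
    congr 1
    conv_rhs => rw [← Finset.map_univ_equiv (σ.prodCongr τ), Finset.map_val, Multiset.map_map]
    congr 1
    funext ab
    simp
  let w' : Fin n ⊕ Fin n → ℕ × ℕ := Sum.elim (fun _ => (1, 0)) fun _ => (0, 1)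
  refine ⟨weightedHomogeneousComponent
    (Sum.elim (fun k : Fin n => (((k : ℕ) + 1, 0) : ℕ × ℕ)) (fun k : Fin n => ((0, (k : ℕ) + 1) : ℕ × ℕ)))
    (n, n) P, ?_, weightedHomogeneousComponent_isWeightedHomogeneous _ _⟩
  rw [component_aeval (w' := w'), hP]
  · refine IsWeightedHomogeneous.weightedHomogeneousComponent_same ?_
    have := isWeightedHomogeneous_esymm (w' := w') (univ : Finset (Fin n × Fin n))
      (fun ab => (X (Sum.inl ab.1) * X (Sum.inr ab.2) : MvPolynomial (Fin n ⊕ Fin n) ℤ)) (1, 1)
      (fun ab _ => by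
        simpa [w'] using (isWeightedHomogeneous_X ℤ w' (Sum.inl ab.1)).mul
          (isWeightedHomogeneous_X ℤ w' (Sum.inr ab.2))) n
    simpa [mulGen] using this
  · rintro (k | k)
    · simp only [Sum.elim_inl, esymm_eq_multiset_esymm]
      rw [← AlgHom.coe_toRingHom (rename Sum.inl), map_esymm', Multiset.map_map]
      have := isWeightedHomogeneous_esymm (w' := w') (univ : Finset (Fin n))
        (fun a => (X (Sum.inl a) : MvPolynomial (Fin n ⊕ Fin n) ℤ)) (1, 0)
        (fun a _ => isWeightedHomogeneous_X ℤ w' _) (k.1 + 1)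
      simpa [Function.comp_def] using this
    · simp only [Sum.elim_inr, esymm_eq_multiset_esymm]
      rw [← AlgHom.coe_toRingHom (rename Sum.inr), map_esymm', Multiset.map_map]
      have := isWeightedHomogeneous_esymm (w' := w') (univ : Finset (Fin n))
        (fun a => (X (Sum.inr a) : MvPolynomial (Fin n ⊕ Fin n) ℤ)) (0, 1)
        (fun a _ => isWeightedHomogeneous_X ℤ w' _) (k.1 + 1)
      simpa [Function.comp_def] using this

theorem exists_isCompPoly (i j : ℕ) :
    ∃ Q : MvPolynomial (Fin (i * j)) ℤ, IsCompPoly i j Q := by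
  have hs : (compGen (i * j) i j).IsSymmetric := fun σ => by
    change (rename (σ : Fin (i * j) → Fin (i * j))).toRingHom (compGen (i * j) i j) = _
    rw [compGen, map_esymm', Multiset.map_map]
    congr 1
    conv_rhs => rw [← Finset.map_univ_equiv σ, Finset.powersetCard_map, Finset.map_val,
      Multiset.map_map]
    congr 1
    funext s
    simp [map_prod]
  obtain ⟨Q, hQ⟩ := esymmAlgHom_surjective ℤ (σ := Fin (i * j)) (n := i * j) (by simp) ⟨_, hs⟩
  let w' : Fin (i * j) → ℕ := fun _ => 1
  refine ⟨weightedHomogeneousComponent (fun k : Fin (i * j) => (k : ℕ) + 1) (i * j) Q, ?_,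
    weightedHomogeneousComponent_isWeightedHomogeneous _ _⟩
  rw [component_aeval (w' := w'), ← esymmAlgHom_apply, hQ]
  · refine IsWeightedHomogeneous.weightedHomogeneousComponent_same ?_
    have := isWeightedHomogeneous_esymm (w' := w') ((univ : Finset (Fin (i * j))).powersetCard i)
      (fun s => (∏ a ∈ s, X a : MvPolynomial (Fin (i * j)) ℤ)) i
      (fun s hs => by
        have := IsWeightedHomogeneous.prod (w := w') s
          (fun a => (X a : MvPolynomial (Fin (i * j)) ℤ)) (fun _ => 1)
          fun a _ => isWeightedHomogeneous_X ℤ w' a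
        rwa [Finset.sum_const, (Finset.mem_powersetCard.mp hs).2, smul_eq_mul, mul_one] at this) j
    simpa [compGen, Nat.mul_comm i j] using this
  · intro k
    rw [esymm_eq_multiset_esymm]
    have := isWeightedHomogeneous_esymm (w' := w') (univ : Finset (Fin (i * j)))
      (fun a => (X a : MvPolynomial (Fin (i * j)) ℤ)) 1
      (fun a _ => isWeightedHomogeneous_X ℤ w' _) (k.1 + 1)
    simpa using this

end Groth.Agent.Lambda
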