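import Groth.Agent.Lambda.Gamma
import Mathlib.RingTheory.MvPolynomial.WeightedHomogeneous

/-!
Series whose `k`-th coefficient lies in the `k`-th term of a multiplicative family of subgroups.
-/

universe u

open Finset PowerSeries LambdaRing

namespace Groth.Agent.Lambda

variable {R : Type u} [CommRing R]

/-- A multiplicative family of additive subgroups. -/
structure GradedFam (R : Type u) [CommRing R] where
  /-- the `n`-th term -/
  M : ℕ → AddSubgroup R
  one_mem : (1 : R) ∈ M 0
  mul_mem : ∀ {a b : ℕ} {x y : R}, x ∈ M a → y ∈ M b → x * y ∈ M (a + b)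

variable (F : GradedFam R)

theorem GradedFam.prod_mem {ι : Type*} (s : Finset ι) (w : ι → ℕ) (f : ι → R)
    (h : ∀ i ∈ s, f i ∈ F.M (w i)) : ∏ i ∈ s, f i ∈ F.M (∑ i ∈ s, w i) := by
  classical
  induction s using Finset.induction with
  | empty => simpa using F.one_mem
  | insert a s ha ih =>
    rw [Finset.prod_insert ha, Finset.sum_insert ha]
    exact F.mul_mem (h a (Finset.mem_insert_self a s))
      (ih fun i hi => h i (Finset.mem_insert_of_mem hi))

theorem GradedFam.list_prod_mem (l : List (ℕ × R)) (h : ∀ p ∈ l, p.2 ∈ F.M p.1) :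
    (l.map Prod.snd).prod ∈ F.M (l.map Prod.fst).sum := by
  induction l with
  | nil => simpa using F.one_mem
  | cons a l ih =>
    simp only [List.map_cons, List.prod_cons, List.sum_cons]
    exact F.mul_mem (h a List.mem_cons_self) (ih fun p hp => h p (List.mem_cons_of_mem _ hp))

theorem GradedFam.pow_mem {a : ℕ} {x : R} (hx : x ∈ F.M a) (n : ℕ) : x ^ n ∈ F.M (n * a) := by
  induction n with
  | zero => simpa using F.one_mem
  | succ n ih => rw [pow_succ, Nat.succ_mul]; exact F.mul_mem ih hx

theorem GradedFam.aeval_mem {σ : Type*} {w : σ → ℕ} {f : σ → R} (hf : ∀ i, f i ∈ F.M (w i))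
    (hanti : ∀ {a b : ℕ}, a ≤ b → F.M b ≤ F.M a) (P : MvPolynomial σ ℤ) (d : ℕ)
    (hP : ∀ e : σ →₀ ℕ, Finsupp.weight w e < d → MvPolynomial.coeff e P = 0) :
    MvPolynomial.aeval f P ∈ F.M d := by
  rw [MvPolynomial.aeval_def, MvPolynomial.eval₂_eq]
  refine AddSubgroup.sum_mem _ fun e he => ?_
  rw [eq_intCast, ← zsmul_eq_mul]
  refine zsmul_mem (hanti ?_ (F.prod_mem e.support (fun i => e i * w i) _
    fun i _ => F.pow_mem (hf i) (e i))) _
  by_contra hlt
  refine (MvPolynomial.mem_support_iff.mp he) (hP e ?_)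
  rw [Finsupp.weight_apply, Finsupp.sum]
  simpa [smul_eq_mul] using not_le.mp hlt

/-- Series adapted to the family. -/
def SeriesIn (φ : PowerSeries R) : Prop := ∀ k, coeff k φ ∈ F.M k

variable {F}

theorem SeriesIn.one : SeriesIn F 1 := fun k => by
  rw [coeff_one]
  split_ifs with h
  · exact h ▸ F.one_mem
  · exact zero_mem _

theorem SeriesIn.mul {φ ψ : PowerSeries R} (hφ : SeriesIn F φ) (hψ : SeriesIn F ψ) :
    SeriesIn F (φ * ψ) := fun k => by
  rw [coeff_mul]
  refine AddSubgroup.sum_mem _ fun p hp => ?_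
  rw [← Finset.HasAntidiagonal.mem_antidiagonal.mp hp]
  exact F.mul_mem (hφ p.1) (hψ p.2)

theorem SeriesIn.inverse {φ ψ : PowerSeries R} (hφ : SeriesIn F φ) (h : ψ * φ = 1)
    (h0 : constantCoeff φ = 1) : SeriesIn F ψ := fun k => by
  induction k using Nat.strong_induction_on with
  | _ k ih =>
    have := congrArg (coeff k) h
    rw [coeff_mul, Finset.Nat.sum_antidiagonal_eq_sum_range_succ_mk, Finset.sum_range_succ] at this
    simp only [Nat.sub_self, coeff_zero_eq_constantCoeff_apply, h0, mul_one] at this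
    rw [eq_sub_of_add_eq' this]
    refine sub_mem (SeriesIn.one k) (AddSubgroup.sum_mem _ fun i hi => ?_)
    rw [Finset.mem_range] at hi
    have := F.mul_mem (ih i hi) (hφ (k - i))
    rwa [show i + (k - i) = k by omega] at this

section Lam

variable {A : Type u} [CommRing A] [LambdaOps A] {F : GradedFam A}

theorem seriesIn_gamma_closure {S : Set A} (hS : ∀ s ∈ S, SeriesIn F (gammaSeries s)) {z : A}
    (hz : z ∈ AddSubgroup.closure S) : SeriesIn F (gammaSeries z) := by
  induction hz using AddSubgroup.closure_induction with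
  | mem x hx => exact hS x hx
  | zero => rw [gammaSeries_zero]; exact SeriesIn.one
  | add x y _ _ hx hy => rw [gammaSeries_add]; exact hx.mul hy
  | neg x _ hx => exact hx.inverse (gammaSeries_neg_mul x) (constantCoeff_gammaSeries x)

theorem gamma_mem_of_seriesIn {z : A} (h : SeriesIn F (gammaSeries z)) (k : ℕ) :
    gamma k z ∈ F.M k := by
  simpa [gammaSeries] using h k

end Lam

end Groth.Agent.Lambda
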