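import Groth.Agent.Lambda.Split
import Groth.Agent.Lambda.Graded
import Groth.Agent.Lambda.Existence
import Mathlib.RingTheory.MvPolynomial.Ideal

/-!
`ψ^j - j^n` shifts the γ-filtration of a λ-ring with the splitting property.
-/

universe u

open Finset LambdaRing

namespace Groth.Agent.Lambda

section Universal

open MvPolynomial

theorem prod_sub_prod_mem {R : Type u} [CommRing R] (I : Ideal R) {ι : Type*} (s : Finset ι)
    (a b : ι → R) (ha : ∀ i ∈ s, a i ∈ I) (hb : ∀ i ∈ s, b i ∈ I)
    (hab : ∀ i ∈ s, a i - b i ∈ I ^ 2) :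
    (∏ i ∈ s, a i) - ∏ i ∈ s, b i ∈ I ^ (s.card + 1) := by
  classical
  induction s using Finset.induction with
  | empty => simp
  | insert i s hi ih =>
    rw [Finset.prod_insert hi, Finset.prod_insert hi, Finset.card_insert_of_notMem hi,
      show a i * ∏ x ∈ s, a x - b i * ∏ x ∈ s, b x =
        (a i - b i) * ∏ x ∈ s, a x + b i * (∏ x ∈ s, a x - ∏ x ∈ s, b x) by ring]
    refine add_mem ?_ ?_
    · rw [show s.card + 1 + 1 = 2 + s.card by omega, pow_add]
      refine Ideal.mul_mem_mul (hab i (Finset.mem_insert_self i s)) ?_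
      have := Ideal.prod_mem_prod fun x hx => ha x (Finset.mem_insert_of_mem hx)
      simpa [Finset.prod_const] using this
    · rw [pow_succ' I (s.card + 1)]
      exact Ideal.mul_mem_mul (hb i (Finset.mem_insert_self i s))
        (ih (fun x hx => ha x (Finset.mem_insert_of_mem hx))
          (fun x hx => hb x (Finset.mem_insert_of_mem hx))
          fun x hx => hab x (Finset.mem_insert_of_mem hx))

theorem one_add_pow_sub {R : Type u} [CommRing R] (z : R) (j : ℕ) :
    ∃ r, (1 + z) ^ j - 1 = (j : R) * z + z ^ 2 * r := by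
  induction j with
  | zero => exact ⟨0, by simp⟩
  | succ j ih =>
    obtain ⟨r, hr⟩ := ih
    refine ⟨r * (1 + z) + j, ?_⟩
    rw [pow_succ, Nat.cast_succ]
    linear_combination (1 + z) * hr

/-- `esymm_r ((1 + z)^j - 1) - j^r esymm_r z`, in the elementary symmetric functions of `z`. -/
theorem exists_adams_gamma_poly (m r j : ℕ) :
    ∃ Q : MvPolynomial (Fin m) ℤ,
      aeval (fun i : Fin m => esymm (Fin m) ℤ (i.1 + 1)) Q =
        ((univ : Finset (Fin m)).val.map fun i => (1 + X i : MvPolynomial (Fin m) ℤ) ^ j - 1).esymm r -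
          (j : MvPolynomial (Fin m) ℤ) ^ r * esymm (Fin m) ℤ r ∧
      ∀ e : Fin m →₀ ℕ, Finsupp.weight (fun i : Fin m => i.1 + 1) e < r + 1 → coeff e Q = 0 := by
  set G := ((univ : Finset (Fin m)).val.map fun i => (1 + X i : MvPolynomial (Fin m) ℤ) ^ j - 1).esymm r -
    (j : MvPolynomial (Fin m) ℤ) ^ r * esymm (Fin m) ℤ r with hG
  have hsym : G.IsSymmetric := fun σ => by
    change (rename (σ : Fin m → Fin m)).toRingHom G = G
    rw [hG, map_sub, map_mul, map_pow, map_natCast, map_esymm', Multiset.map_map]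
    congr 2
    · conv_rhs => rw [← Finset.map_univ_equiv σ, Finset.map_val, Multiset.map_map]
      refine Multiset.map_congr rfl fun i _ => ?_
      simp
    · exact esymm_isSymmetric (Fin m) ℤ r σ
  obtain ⟨Q, hQ⟩ := esymmAlgHom_surjective ℤ (σ := Fin m) (n := m) (by simp) ⟨G, hsym⟩
  have hQ' : aeval (fun i : Fin m => esymm (Fin m) ℤ (i.1 + 1)) Q = G := by
    rw [← esymmAlgHom_apply, hQ]
  have hmem : G ∈ idealOfVars (Fin m) ℤ ^ (r + 1) := by
    rw [hG, Finset.esymm_map_val, esymm_eq_multiset_esymm, Finset.esymm_map_val, Finset.mul_sum,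
      ← Finset.sum_sub_distrib]
    refine sum_mem fun t ht => ?_
    rw [Finset.mem_powersetCard] at ht
    have hX : ∀ i, (X i : MvPolynomial (Fin m) ℤ) ∈ idealOfVars (Fin m) ℤ := fun i =>
      Ideal.subset_span (Set.mem_range_self i)
    have h := prod_sub_prod_mem (idealOfVars (Fin m) ℤ) t
      (fun i => (1 + X i : MvPolynomial (Fin m) ℤ) ^ j - 1) (fun i => (j : MvPolynomial (Fin m) ℤ) * X i)
      (fun i _ => by
        obtain ⟨q, hq⟩ := one_add_pow_sub (X i : MvPolynomial (Fin m) ℤ) j
        rw [hq, pow_two, mul_assoc]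
        exact add_mem (Ideal.mul_mem_left _ _ (hX i)) (Ideal.mul_mem_right _ _ (hX i)))
      (fun i _ => Ideal.mul_mem_left _ _ (hX i))
      fun i _ => by
        obtain ⟨q, hq⟩ := one_add_pow_sub (X i : MvPolynomial (Fin m) ℤ) j
        rw [hq, add_sub_cancel_left]
        exact Ideal.mul_mem_right _ _ (Ideal.pow_mem_pow (hX i) 2)
    rwa [Finset.prod_mul_distrib, Finset.prod_const, ht.2] at h
  refine ⟨Q, hQ', fun e he => ?_⟩
  let w : Fin m → ℕ := fun i => i.1 + 1
  have hcomp : weightedHomogeneousComponent w (Finsupp.weight w e) Q = 0 := by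
    apply aeval_esymm_injective ℤ m
    rw [map_zero, component_aeval (w' := fun _ : Fin m => (1 : ℕ)), hQ']
    · ext d
      rw [coeff_weightedHomogeneousComponent, coeff_zero]
      split_ifs with hd
      · refine (mem_pow_idealOfVars_iff' (r + 1) G).mp hmem d ?_
        rw [← hd] at he
        simpa [Finsupp.weight_apply, Finsupp.sum, Finsupp.degree_apply] using he
      · rfl
    · intro i
      rw [esymm_eq_multiset_esymm]
      have := isWeightedHomogeneous_esymm (w' := fun _ : Fin m => (1 : ℕ)) (univ : Finset (Fin m))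
        (fun a => (X a : MvPolynomial (Fin m) ℤ)) 1
        (fun a _ => isWeightedHomogeneous_X ℤ (fun _ : Fin m => (1 : ℕ)) a) (i.1 + 1)
      simpa [w] using this
  have := congrArg (coeff e) hcomp
  rwa [coeff_weightedHomogeneousComponent, if_pos rfl, coeff_zero] at this

end Universal

variable {K : Type u} [CommRing K] [LambdaOps K]

/-- The γ-filtration as a multiplicative family. -/
def gammaFam (P : PosStructure K) : GradedFam K where
  M := gammaFiltration P
  one_mem := gammaFiltration_zero 1
  mul_mem := gammaFiltration_mul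

/-- Elements on which `ψ^j` is `j^n` modulo the next step of the filtration. -/
noncomputable def adamsFam (P : PosStructure K) (j : ℕ) (hj : 1 ≤ j) (hK : HasSplitting K P) :
    GradedFam K where
  M n := gammaFiltration P n ⊓ ((gammaFiltration P (n + 1)).comap
    ((adamsHom j hj (adamsOp_one_pos P hj) (adamsOp_mul_pos hK hj)).toAddMonoidHom -
      AddMonoidHom.mulLeft ((j : K) ^ n)))
  one_mem := by
    refine ⟨gammaFiltration_zero 1, ?_⟩
    simp
  mul_mem := by
    rintro a b x y ⟨hx, hx'⟩ ⟨hy, hy'⟩
    refine ⟨gammaFiltration_mul hx hy, ?_⟩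
    set ψ := adamsHom j hj (adamsOp_one_pos P hj) (adamsOp_mul_pos hK hj)
    change ψ x - (j : K) ^ a * x ∈ gammaFiltration P (a + 1) at hx'
    change ψ y - (j : K) ^ b * y ∈ gammaFiltration P (b + 1) at hy'
    change ψ (x * y) - (j : K) ^ (a + b) * (x * y) ∈ gammaFiltration P (a + b + 1)
    rw [map_mul, show ψ x * ψ y - (j : K) ^ (a + b) * (x * y) =
      (ψ x - (j : K) ^ a * x) * ((ψ y - (j : K) ^ b * y) + (j : K) ^ b * y) +
        (j : K) ^ a * (x * (ψ y - (j : K) ^ b * y)) by ring]
    refine add_mem ?_ ?_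
    · rw [show a + b + 1 = a + 1 + b by omega]
      exact gammaFiltration_mul hx' (add_mem (gammaFiltration_anti (Nat.le_succ b) hy')
        (gammaFiltration_mul_mem _ hy))
    · rw [show a + b + 1 = a + (b + 1) by omega]
      exact gammaFiltration_mul_mem _ (gammaFiltration_mul hx hy')

theorem mem_adamsFam {P : PosStructure K} {j : ℕ} {hj : 1 ≤ j} {hK : HasSplitting K P} {n : ℕ}
    {x : K} : x ∈ (adamsFam P j hj hK).M n ↔ x ∈ gammaFiltration P n ∧
      adamsOp j x - (j : K) ^ n * x ∈ gammaFiltration P (n + 1) := Iff.rfl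

theorem seriesIn_gamma_pos {P : PosStructure K} (hK : HasSplitting K P) {j : ℕ} (hj : 1 ≤ j)
    {e : K} (he : e ∈ P.pos) :
    SeriesIn (adamsFam P j hj hK) (gammaSeries (e - (P.aug e : K))) := by
  intro r
  rw [gammaSeries, PowerSeries.coeff_mk, mem_adamsFam]
  obtain ⟨L, f, hf, hL, s, hs1, hs2, hcard⟩ := exists_split hK he
  set y := e - (P.aug e : K)
  have hy0 : P.aug y = 0 := by simp [y]
  have hmemF : ∀ i, gamma i y ∈ gammaFiltration P i := fun i => by
    simpa using prod_gamma_mem (P := P) (n := i) [(i, y)] (by simpa using hy0) (by simp)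
  refine ⟨hmemF r, ?_⟩
  obtain ⟨Q, hQ1, hQ2⟩ := exists_adams_gamma_poly s.toList.length r j
  have hval : (univ : Finset (Fin s.toList.length)).val.map s.toList.get = s := by
    rw [Fin.univ_val_map, List.ofFn_get, Multiset.coe_toList]
  have hfy : f y = s.sum - (s.card : L.carrier) := by
    rw [map_sub, map_intCast, ← hs2, ← hcard, Int.cast_natCast]
  have key : adamsOp j (gamma r y) - (j : K) ^ r * gamma r y =
      MvPolynomial.aeval (fun i : Fin s.toList.length => gamma (i.1 + 1) y) Q := by
    refine hf.injective ?_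
    let ev : MvPolynomial (Fin s.toList.length) ℤ →+* L.carrier :=
      (MvPolynomial.aeval fun i => s.toList.get i - 1).toRingHom
    have hev : ∀ k, ev (MvPolynomial.esymm (Fin s.toList.length) ℤ k) = f (gamma k y) := by
      intro k
      rw [map_gamma hf.isLambdaHom, hfy, gamma_sum_lines hs1, MvPolynomial.esymm_eq_multiset_esymm,
        map_esymm', Multiset.map_map]
      conv_rhs => rw [← hval, Multiset.map_map]
      refine congrArg (Multiset.esymm · k) (Multiset.map_congr rfl fun i _ => ?_)
      simp [ev]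
    let ψ := adamsHom j hj (adamsOp_one_pos L.posStr hj) (adamsOp_mul_pos hL hj)
    have hG := congrArg ev hQ1
    rw [map_aeval_int] at hG
    rw [map_sub, map_mul, map_pow, map_natCast, map_adamsOp hf.isLambdaHom, map_aeval_int,
      ← show (fun i : Fin s.toList.length => ev (MvPolynomial.esymm (Fin s.toList.length) ℤ (i.1 + 1))) =
        fun i => f (gamma (i.1 + 1) y) from funext fun i => hev _, hG, map_sub, map_mul, map_pow,
      map_natCast, hev, map_esymm' ev]
    congr 1
    change ψ (f (gamma r y)) = _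
    rw [map_gamma hf.isLambdaHom, hfy, gamma_sum_lines hs1, map_esymm', Multiset.map_map,
      Multiset.map_map]
    conv_lhs => rw [← hval, Multiset.map_map]
    refine congrArg (Multiset.esymm · r) (Multiset.map_congr rfl fun i _ => ?_)
    change ψ (s.toList.get i - 1) = ev ((1 + MvPolynomial.X i) ^ j - 1)
    rw [map_sub, map_one, show ψ (s.toList.get i) = s.toList.get i ^ j from
      adamsOp_line (hs1 _ (Multiset.mem_toList.mp (List.get_mem _ i))) hj]
    simp [ev]
  rw [key]
  exact (gammaFam P).aeval_mem (w := fun i : Fin s.toList.length => i.1 + 1) (fun i => hmemF _)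
    (fun h x hx => gammaFiltration_anti h hx) Q (r + 1) hQ2

theorem adamsOp_sub_mem {P : PosStructure K} (hK : HasSplitting K P) {j : ℕ} (hj : 1 ≤ j) {n : ℕ}
    {x : K} (hx : x ∈ gammaFiltration P n) :
    adamsOp j x - (j : K) ^ n * x ∈ gammaFiltration P (n + 1) := by
  rcases eq_or_ne n 0 with rfl | hn
  · refine mem_gammaFiltration_one ?_
    rw [map_sub, pow_zero, one_mul, ← adams_eq P hj, aug_adams hK, sub_self]
  set ψ := adamsHom j hj (adamsOp_one_pos P hj) (adamsOp_mul_pos hK hj)
  refine gammaFiltration_induction (motive := fun z => ψ z - (j : K) ^ n * z ∈ gammaFiltration P (n + 1))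
    hn hx (fun l h1 h2 => ?_) (by simp) (fun a b ha hb => ?_) fun a ha => ?_
  · have hser : ∀ p ∈ l, gamma p.1 p.2 ∈ (adamsFam P j hj hK).M p.1 := by
      intro p hp
      obtain ⟨e, e', he, he', hxe⟩ := P.exists_sub p.2
      have haug : P.aug e = P.aug e' := sub_eq_zero.mp (by rw [← map_sub, ← hxe, h1 p hp])
      refine gamma_mem_of_seriesIn ?_ _
      rw [hxe, show e - e' = (e - (P.aug e : K)) + -(e' - (P.aug e' : K)) by rw [haug]; ring,
        gammaSeries_add]
      exact (seriesIn_gamma_pos hK hj he).mul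
        ((seriesIn_gamma_pos hK hj he').inverse (gammaSeries_neg_mul _) (constantCoeff_gammaSeries _))
    have hmem := (adamsFam P j hj hK).list_prod_mem (l.map fun p => (p.1, gamma p.1 p.2))
      (fun q hq => by obtain ⟨p, hp, rfl⟩ := List.mem_map.mp hq; exact hser p hp)
    simp only [List.map_map, Function.comp_def] at hmem
    obtain ⟨hz, hz'⟩ := mem_adamsFam.mp hmem
    rcases eq_or_lt_of_le h2 with heq | hlt
    · rw [heq]
      exact hz'
    · set s := (l.map fun p => p.1).sum
      set z := (l.map fun p => gamma p.1 p.2).prod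
      rw [show ψ z - (j : K) ^ n * z =
        (ψ z - (j : K) ^ s * z) + ((j : K) ^ s - (j : K) ^ n) * z by ring]
      exact add_mem (gammaFiltration_anti (by omega) hz')
        (gammaFiltration_mul_mem _ (gammaFiltration_anti (by omega) hz))
  · rw [map_add, mul_add, add_sub_add_comm]
    exact add_mem ha hb
  · rw [map_neg, mul_neg, ← neg_sub']
    exact neg_mem ha

end Groth.Agent.Lambda
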