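import Groth.Agent.Lambda.GammaUniv

/-!
The γ-filtration of an augmented λ-algebra over a binomial ring.
-/

universe u v

open Finset LambdaRing

namespace Groth.Agent.Lambda

variable {K : Type u} [CommRing K] [LambdaOps K] {A : Type v} [CommRing A] [LambdaOps A]

theorem gammaFil_prod_mem (ε : A →+* K) {n : ℕ} (l : List (ℕ × A)) (hl : ∀ p ∈ l, ε p.2 = 0)
    (hn : n ≤ (l.map Prod.fst).sum) : (l.map fun p => gamma p.1 p.2).prod ∈ gammaFil ε n :=
  Ideal.subset_span ⟨l, hl, hn, rfl⟩

theorem gammaFil_gamma_mem (ε : A →+* K) {x : A} (hx : ε x = 0) (i : ℕ) :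
    gamma i x ∈ gammaFil ε i := by
  simpa using gammaFil_prod_mem ε (n := i) [(i, x)] (by simpa using hx) (by simp)

theorem gammaFil_zero (ε : A →+* K) : gammaFil ε 0 = ⊤ :=
  (Ideal.eq_top_iff_one _).mpr (by simpa using gammaFil_prod_mem ε (n := 0) [] (by simp) (by simp))

theorem gammaFil_anti (ε : A →+* K) {a b : ℕ} (h : a ≤ b) : gammaFil ε b ≤ gammaFil ε a :=
  Ideal.span_mono fun _ ⟨l, h1, h2, h3⟩ => ⟨l, h1, h.trans h2, h3⟩

theorem gammaFil_mul (ε : A →+* K) (a b : ℕ) : gammaFil ε a * gammaFil ε b ≤ gammaFil ε (a + b) := by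
  rw [gammaFil, gammaFil, Ideal.span_mul_span', Ideal.span_le]
  rintro _ ⟨x, ⟨l, h1, h2, rfl⟩, y, ⟨l', h1', h2', rfl⟩, rfl⟩
  have := gammaFil_prod_mem ε (n := a + b) (l ++ l') (fun p hp => by
    rcases List.mem_append.mp hp with hp | hp
    exacts [h1 p hp, h1' p hp]) (by simp; omega)
  simpa using this

/-- The γ-filtration as a multiplicative family. -/
def filFam (ε : A →+* K) : GradedFam A where
  M n := (gammaFil ε n).toAddSubgroup
  one_mem := by simp [gammaFil_zero]
  mul_mem hx hy := gammaFil_mul ε _ _ (Ideal.mul_mem_mul hx hy)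

theorem mem_filFam {ε : A →+* K} {n : ℕ} {x : A} : x ∈ (filFam ε).M n ↔ x ∈ gammaFil ε n := Iff.rfl

theorem theta_mem_gammaFil (ε : A →+* K) {x : ℕ → A} (hx : ∀ a, ε (x a) = 0) {v : FZ} {n : ℕ}
    (hv : iotaQ v ∈ wF.M n) : theta x v ∈ gammaFil ε n :=
  theta_mem (filFam ε) (fun h _ hz => gammaFil_anti ε h hz)
    (fun a i => gammaFil_gamma_mem ε (hx a) (i + 1)) hv

/-- Shift the indices of a family to make room for one element. -/
def consFam (z : A) (x : ℕ → A) : ℕ → A := fun a => if a = 0 then z else x (a - 1)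

theorem consFam_ker (ε : A →+* K) {z : A} {x : ℕ → A} (hz : ε z = 0) (hx : ∀ a, ε (x a) = 0) (a : ℕ) :
    ε (consFam z x a) = 0 := by
  rcases a with _ | a
  · simpa [consFam] using hz
  · simpa [consFam] using hx a

/-- Prepend `γ^(i+1) z` to a monomial. -/
noncomputable def consPoly (i : ℕ) (u : FZ) : FZ :=
  MvPolynomial.X (0, i) * MvPolynomial.rename (fun p : ℕ × ℕ => (p.1 + 1, p.2)) u

theorem theta_consPoly (z : A) (x : ℕ → A) (i : ℕ) (u : FZ) :
    theta (consFam z x) (consPoly i u) = gamma (i + 1) z * theta x u := by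
  rw [consPoly, map_mul, theta_X]
  simp [theta, MvPolynomial.aeval_rename, consFam, Function.comp_def]

theorem consPoly_mem (i : ℕ) {u : FZ} {n : ℕ} (hu : iotaQ u ∈ wF.M n) :
    iotaQ (consPoly i u) ∈ wF.M (i + 1 + n) := by
  rw [consPoly, map_mul]
  refine wF.mul_mem ?_ ?_
  · rw [iotaQ, MvPolynomial.map_X]
    exact X_mem_wF (0, i)
  · set sh : ℕ × ℕ → ℕ × ℕ := fun p => (p.1 + 1, p.2) with hsh
    have hinj : Function.Injective sh := fun p q h => by
      simp only [hsh, Prod.mk.injEq, Nat.add_right_cancel_iff] at h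
      exact Prod.ext h.1 h.2
    intro e he
    rw [iotaQ, MvPolynomial.coeff_map]
    by_cases hex : ∃ f, Finsupp.mapDomain sh f = e
    · obtain ⟨f, rfl⟩ := hex
      rw [MvPolynomial.coeff_rename_mapDomain _ hinj]
      have hw : Finsupp.weight wt (Finsupp.mapDomain sh f) = Finsupp.weight wt f := by
        rw [Finsupp.weight_apply, Finsupp.weight_apply,
          Finsupp.sum_mapDomain_index (by simp) (by intros; simp [add_mul])]
        rfl
      rw [hw] at he
      have := hu f he
      rwa [iotaQ, MvPolynomial.coeff_map] at this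
    · rw [MvPolynomial.coeff_rename_eq_zero sh u e fun f hf => absurd ⟨f, hf⟩ hex, map_zero]

theorem tau_consPoly {d i : ℕ} (hi : d ≤ i + 1) (u : FZ) :
    tau 0 d (iotaQ (consPoly i u)) = 0 := by
  rw [consPoly, map_mul, map_mul, iotaQ, MvPolynomial.map_X, tau, MvPolynomial.aeval_X,
    if_pos ⟨rfl, hi⟩, zero_mul]

/-- A product of γ's as the value of a monomial. -/
theorem exists_theta_rep (ε : A →+* K) (l : List (ℕ × A)) (hl : ∀ p ∈ l, ε p.2 = 0) :
    ∃ (x : ℕ → A) (u : FZ), (∀ a, ε (x a) = 0) ∧ iotaQ u ∈ wF.M (l.map Prod.fst).sum ∧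
      theta x u = (l.map fun p => gamma p.1 p.2).prod := by
  induction l with
  | nil => exact ⟨fun _ => 0, 1, fun _ => map_zero ε, by simpa using wF_zero _, by simp⟩
  | cons q l ih =>
    obtain ⟨x, u, hx, hu, hxu⟩ := ih fun p hp => hl p (List.mem_cons_of_mem _ hp)
    rcases Nat.eq_zero_or_pos q.1 with h0 | hpos
    · refine ⟨x, u, hx, by simpa [h0] using hu, ?_⟩
      rw [hxu, List.map_cons, List.prod_cons, h0, gamma_zero, one_mul]
    · refine ⟨consFam q.2 x, consPoly (q.1 - 1) u, consFam_ker ε (hl q List.mem_cons_self) hx, ?_, ?_⟩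
      · have := consPoly_mem (q.1 - 1) hu
        rwa [Nat.sub_add_cancel hpos] at this
      · rw [theta_consPoly, hxu, Nat.sub_add_cancel hpos, List.map_cons, List.prod_cons]

theorem constantCoeff_iotaQ {u : FZ} {n : ℕ} (hn : 1 ≤ n) (h : iotaQ u ∈ wF.M n) :
    MvPolynomial.constantCoeff (iotaQ u) = 0 :=
  mem_wF_one.mp (wF_anti hn h)

theorem coeff_tau (a d : ℕ) (P : FQ) (e : ℕ × ℕ →₀ ℕ)
    (he : ∀ p ∈ e.support, ¬(p.1 = a ∧ d ≤ p.2 + 1)) :
    MvPolynomial.coeff e (tau a d P) = MvPolynomial.coeff e P := by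
  induction P using MvPolynomial.induction_on' with
  | add p q hp hq => simp only [map_add, MvPolynomial.coeff_add, hp, hq]
  | monomial f c =>
    rw [tau, MvPolynomial.aeval_monomial, MvPolynomial.coeff_monomial]
    by_cases hf : ∀ p ∈ f.support, ¬(p.1 = a ∧ d ≤ p.2 + 1)
    · rw [Finsupp.prod, Finset.prod_congr rfl fun p hp => by rw [if_neg (hf p hp)],
        MvPolynomial.algebraMap_eq]
      rw [← MvPolynomial.coeff_monomial, MvPolynomial.monomial_eq, Finsupp.prod]
    · push Not at hf
      obtain ⟨p, hp, hpk⟩ := hf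
      rw [Finsupp.prod, Finset.prod_eq_zero hp (by
        rw [if_pos hpk, zero_pow (Finsupp.mem_support_iff.mp hp)]), mul_zero,
        MvPolynomial.coeff_zero, if_neg]
      rintro rfl
      exact he p hp hpk

/-- Values of polynomials killed by `tau`: divisibility by the top class. -/
theorem theta_mem_top (ε : A →+* K) {x : ℕ → A} (hx : ∀ a, ε (x a) = 0) {d : ℕ} (hd : 1 ≤ d)
    (hx0 : ∀ j, d < j → gamma j (x 0) = 0) {v : FZ} {n : ℕ} (hv : iotaQ v ∈ wF.M n)
    (hτ : tau 0 d (iotaQ v) = 0) :
    theta x v ∈ Ideal.span {gamma d (x 0)} * gammaFil ε (n - d) := by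
  rw [theta, AlgHom.toRingHom_eq_coe, RingHom.coe_coe, MvPolynomial.aeval_def, MvPolynomial.eval₂_eq]
  refine Ideal.sum_mem _ fun e he => Ideal.mul_mem_left _ _ ?_
  have hce := MvPolynomial.mem_support_iff.mp he
  obtain ⟨p, hp, hp1, hp2⟩ : ∃ p ∈ e.support, p.1 = 0 ∧ d ≤ p.2 + 1 := by
    by_contra hne
    push Not at hne
    have h := coeff_tau 0 d (iotaQ v) e fun p hp h => (hne p hp h.1).not_ge h.2
    rw [hτ, MvPolynomial.coeff_zero, iotaQ, MvPolynomial.coeff_map, eq_intCast] at h
    exact hce (Int.cast_eq_zero.mp h.symm)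
  have hep := Finsupp.mem_support_iff.mp hp
  rcases eq_or_lt_of_le hp2 with heq | hlt
  swap
  · rw [Finset.prod_eq_zero hp (by rw [hp1, hx0 _ hlt, zero_pow hep])]
    exact zero_mem _
  have hw : n ≤ Finsupp.weight wt e := by
    by_contra h
    exact hce (coeff_eq_zero_of_wF hv e (not_le.mp h))
  rw [← Finset.mul_prod_erase _ _ hp, show p.2 + 1 = d from heq.symm, hp1,
    ← Nat.sub_add_cancel (Nat.one_le_iff_ne_zero.mpr hep), pow_succ', mul_assoc]
  refine Ideal.mul_mem_mul (Ideal.subset_span rfl) ?_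
  have hmem : ∀ q : ℕ × ℕ, ∀ k, gamma (q.2 + 1) (x q.1) ^ k ∈ (filFam ε).M (k * (q.2 + 1)) :=
    fun q k => (filFam ε).pow_mem (gammaFil_gamma_mem ε (hx q.1) _) k
  have h1 := (filFam ε).prod_mem (e.support.erase p) (fun q => e q * wt q) _
    fun q _ => hmem q (e q)
  have h2 := (filFam ε).mul_mem (show gamma d (x 0) ^ (e p - 1) ∈ (filFam ε).M ((e p - 1) * d) by
    have := hmem p (e p - 1)
    rwa [hp1, show p.2 + 1 = d from heq.symm] at this) h1
  refine gammaFil_anti ε ?_ h2
  rw [Finsupp.weight_apply, Finsupp.sum, ← Finset.add_sum_erase _ _ hp] at hw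
  simp only [wt, smul_eq_mul] at hw ⊢
  rw [show p.2 + 1 = d from heq.symm] at hw
  have : e p * d = (e p - 1) * d + d := by
    conv_lhs => rw [← Nat.sub_add_cancel (Nat.one_le_iff_ne_zero.mpr hep), Nat.add_mul, one_mul]
  omega

section Rank

theorem gamma_sub_rank_eq_zero (h1 : ∀ k : ℕ, 2 ≤ k → LambdaOps.lam k (1 : A) = 0) {d : ℕ} {N₀ : A}
    (hN : ∀ k : ℕ, d < k → LambdaOps.lam k N₀ = 0) {j : ℕ} (hj : d < j) :
    gamma j (N₀ - (d : A)) = 0 := by
  have := congrArg (PowerSeries.coeff j) (gammaSeries_sub_natCast h1 N₀ d)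
  rw [gammaSeries, PowerSeries.coeff_mk] at this
  rw [this, gammaSeries_eq, show lamSeries N₀ =
    ((∑ i ∈ range (d + 1), Polynomial.C (LambdaOps.lam i N₀) * Polynomial.X ^ i : Polynomial A) :
      PowerSeries A) from ?_, PowerSeries.subst_coe hasSubst_gammaArg, map_sum, Finset.sum_mul, map_sum]
  · refine Finset.sum_eq_zero fun i hi => ?_
    rw [Finset.mem_range] at hi
    simp only [Polynomial.aeval_mul, Polynomial.aeval_C, Polynomial.aeval_X_pow]
    rw [gammaArg, mul_pow, mul_assoc,
      mul_assoc, show (1 - PowerSeries.X : PowerSeries A) ^ d =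
        (1 - PowerSeries.X) ^ i * (1 - PowerSeries.X) ^ (d - i) by
        rw [← pow_add]; congr 1; omega, ← mul_assoc (PowerSeries.mk 1 ^ i), ← mul_pow,
      PowerSeries.mk_one_mul_one_sub_eq_one, one_pow, one_mul, PowerSeries.algebraMap_apply,
      PowerSeries.coeff_C_mul, PowerSeries.coeff_X_pow_mul', if_pos (by omega),
      show (1 - PowerSeries.X : PowerSeries A) ^ (d - i) =
        (((1 - Polynomial.X) ^ (d - i) : Polynomial A) : PowerSeries A) by simp,
      Polynomial.coeff_coe, Polynomial.coeff_eq_zero_of_natDegree_lt, mul_zero]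
    have hd1 : (1 - Polynomial.X : Polynomial A).natDegree ≤ 1 :=
      (Polynomial.natDegree_sub_le _ _).trans (max_le (by simp) Polynomial.natDegree_X_le)
    calc ((1 - Polynomial.X : Polynomial A) ^ (d - i)).natDegree ≤ (d - i) * 1 :=
          Polynomial.natDegree_pow_le.trans (Nat.mul_le_mul_left _ hd1)
      _ < j - i := by omega
  · ext n
    rw [lamSeries, PowerSeries.coeff_mk, Polynomial.coeff_coe, Polynomial.finsetSum_coeff]
    by_cases hn : n ≤ d
    · rw [Finset.sum_eq_single n] <;> simp +contextual [Nat.lt_succ_of_le hn, eq_comm]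
    · rw [hN n (by omega), Finset.sum_eq_zero]
      intro i hi
      rw [Finset.mem_range] at hi
      simp [show n ≠ i by omega]

/-- `λ_{-1}(N) = (-1)^d γ^d(N - d)`. -/
theorem lamAlt_eq (h1 : ∀ k : ℕ, 2 ≤ k → LambdaOps.lam k (1 : A) = 0) {d : ℕ} {N₀ : A}
    (hN : ∀ k : ℕ, d < k → LambdaOps.lam k N₀ = 0) :
    (∑ i ∈ range (d + 1), (-1 : A) ^ i * LambdaOps.lam i N₀) =
      (-1) ^ d * gamma d (N₀ - (d : A)) := by
  rw [gamma_eq_lam h1, sub_add_cancel]
  have h := alternating_sum_lam h1 (N₀ - 1) d
  rw [sub_add_cancel] at h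
  exact h

end Rank

section Scalar

theorem aeval_int_congr {σ L : Type*} [CommRing L] (i₁ i₂ : Algebra ℤ L) (g : σ → L)
    (q : MvPolynomial σ ℤ) :
    @MvPolynomial.aeval ℤ L σ _ _ i₁ g q = @MvPolynomial.aeval ℤ L σ _ _ i₂ g q := by
  rw [Subsingleton.elim i₁ i₂]

variable [Algebra K A] [BinomialRing K]

omit [LambdaOps K] [LambdaOps A] [CommRing A] [Algebra K A] in
theorem derivative_binomial (k : K) :
    PowerSeries.derivative K (PowerSeries.mk fun l => Ring.choose k l) * (1 + PowerSeries.X) =
      PowerSeries.C k * PowerSeries.mk fun l => Ring.choose k l := by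
  ext n
  rw [mul_add, mul_one, map_add, PowerSeries.coeff_derivative, PowerSeries.coeff_C_mul,
    PowerSeries.coeff_mk, PowerSeries.coeff_mk, choose_succ_mul]
  rcases n with _ | n
  · rw [PowerSeries.coeff_zero_mul_X, Nat.cast_zero]; ring
  · rw [PowerSeries.coeff_succ_mul_X, PowerSeries.coeff_derivative, PowerSeries.coeff_mk,
      choose_succ_mul, Nat.cast_succ, ← choose_succ_mul k n]
    ring

omit [LambdaOps K] [LambdaOps A] [CommRing A] [Algebra K A] in
theorem N_subst_binomial {L : Type u} [CommRing L] (f : K →+* L) (k : K) (b : ℕ → L)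
    (hb : b 0 = 1) {i : ℕ} (hi : 1 ≤ i) :
    N (fun n => PowerSeries.coeff n
      ((PowerSeries.map f (PowerSeries.mk fun l => Ring.choose k l)).subst (ser b - 1))) i =
      f k * N b i := by
  have hs : PowerSeries.HasSubst (ser b - 1) :=
    PowerSeries.HasSubst.of_constantCoeff_zero' (by simp [constantCoeff_ser, hb])
  set F := PowerSeries.map f (PowerSeries.mk fun l => Ring.choose k l) with hF
  have hser : ser (fun n => PowerSeries.coeff n (F.subst (ser b - 1))) = F.subst (ser b - 1) := by
    ext n; simp [ser]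
  have h0 : PowerSeries.coeff 0 (F.subst (ser b - 1)) = 1 := by
    rw [PowerSeries.coeff_subst' hs, finsum_eq_single _ 0 fun d hd => by
      simp [constantCoeff_ser, hb, hd]]
    simp [hF]
  refine N_eq_of_derivative (p := fun i => f k * N b i) h0 ?_ hi
  have hF' : PowerSeries.derivative L F * (1 + PowerSeries.X) = PowerSeries.C (f k) * F := by
    have hd : PowerSeries.derivative L F =
        PowerSeries.map f (PowerSeries.derivative K (PowerSeries.mk fun l => Ring.choose k l)) := by
      ext n; simp [hF, PowerSeries.coeff_derivative]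
    have := congrArg (PowerSeries.map f) (derivative_binomial k)
    rw [map_mul, map_mul, map_add, map_one, PowerSeries.map_X, PowerSeries.map_C, ← hd] at this
    exact this
  have h1 := congrArg (PowerSeries.substAlgHom hs) hF'
  rw [map_mul, map_mul, map_add, map_one, PowerSeries.substAlgHom_X, PowerSeries.coe_substAlgHom,
    show (1 : PowerSeries L) + (ser b - 1) = ser b by ring, PowerSeries.subst_C] at h1
  have hD : D (fun i => f k * N b i) = PowerSeries.C (f k) * D (N b) := by
    ext n; simp [D, PowerSeries.coeff_C_mul, mul_left_comm]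
  rw [hser, PowerSeries.derivative_subst hs, map_sub, PowerSeries.derivative_one, sub_zero,
    derivative_ser hb, hD, ← mul_assoc, h1]
  change PowerSeries.C (f k) * _ * _ = _
  ring

omit [LambdaOps K] [LambdaOps A] [CommRing A] [Algebra K A] [BinomialRing K] in
theorem map_subst_ser {V : Type*} [CommRing V] {T : Type*} [CommRing T] (φ : V →+* T) (f : K →+* V)
    (g : PowerSeries K) (b : ℕ → V) (hb : b 0 = 1) :
    PowerSeries.map φ ((PowerSeries.map f g).subst (ser b - 1)) =
      (PowerSeries.map (φ.comp f) g).subst (ser (fun j => φ (b j)) - 1) := by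
  have hsub : PowerSeries.HasSubst (ser b - 1) :=
    PowerSeries.HasSubst.of_constantCoeff_zero' (by simp [constantCoeff_ser, hb])
  erw [PowerSeries.map_subst hsub]
  congr 1
  · change PowerSeries.map φ (ser b - 1) = _
    rw [map_sub, map_one]
    congr 1

theorem lamSeries_scalar (hA : IsSpecial A) (hKb : IsBinomial K) (hKA : IsLambdaAlg K A) (k : K)
    (z : A) : lamSeries (algebraMap K A k * z) =
      (PowerSeries.map (algebraMap K A) (PowerSeries.mk fun l => Ring.choose k l)).subst
        (lamSeries z - 1) := by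
  refine PowerSeries.ext fun n => ?_
  obtain ⟨P, hP⟩ := exists_isMulPoly n
  let V := MvPolynomial ℕ K
  let b : ℕ → V := fun j => if j = 0 then 1 else MvPolynomial.X (j - 1)
  let L := MvPolynomial ℕ (RatLoc K)
  let ι : V →+* L := MvPolynomial.map (algebraMap K (RatLoc K))
  let χ : V →+* A := MvPolynomial.eval₂Hom (algebraMap K A) fun j => LambdaOps.lam (j + 1) z
  let lhs : V := MvPolynomial.aeval (Sum.elim
    (fun i : Fin n => MvPolynomial.C (Ring.choose k (i.1 + 1))) fun i : Fin n => b (i.1 + 1)) P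
  let G : PowerSeries V :=
    (PowerSeries.map (MvPolynomial.C : K →+* V) (PowerSeries.mk fun l => Ring.choose k l)).subst (ser b - 1)
  have hsub : PowerSeries.HasSubst (ser b - 1) :=
    PowerSeries.HasSubst.of_constantCoeff_zero' (by simp [constantCoeff_ser, b])
  have hb0 : b 0 = 1 := rfl
  have key : lhs = PowerSeries.coeff n G := by
    apply MvPolynomial.map_injective (algebraMap K (RatLoc K)) toRatLoc_injective
    change ι lhs = ι _
    rw [← PowerSeries.coeff_map ι, map_subst_ser ι _ _ b hb0, map_aeval_int]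
    refine Eq.trans ?_ ((U_mul hP (fun j => ι (MvPolynomial.C (Ring.choose k j))) (fun j => ι (b j))
      (by simp) (by simp [b])).trans ?_)
    · rw [show (fun i => ι (Sum.elim (fun i : Fin n => MvPolynomial.C (Ring.choose k (i.1 + 1)))
        (fun i : Fin n => b (i.1 + 1)) i)) =
        Sum.elim (fun i : Fin n => ι (MvPolynomial.C (Ring.choose k (i.1 + 1))))
          (fun i : Fin n => ι (b (i.1 + 1))) from funext fun i => by rcases i with i | i <;> rfl]
      exact aeval_int_congr _ _ _ P
    · refine (eq_E (e := fun m => PowerSeries.coeff m ((PowerSeries.map (ι.comp MvPolynomial.C)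
        (PowerSeries.mk fun l => Ring.choose k l)).subst (ser (fun j => ι (b j)) - 1))) ?_ _ n
        fun i hi _ => ?_).symm
      · rw [← map_subst_ser ι _ _ b hb0, PowerSeries.coeff_map, PowerSeries.coeff_subst' hsub,
          finsum_eq_single _ 0 fun d hd => by simp [constantCoeff_ser, b, hd]]
        simp
      · rw [N_subst_binomial (ι.comp MvPolynomial.C) k (fun j => ι (b j)) (by simp [b]) hi,
          RingHom.comp_apply, ← map_N ι, ← map_N ι, ← map_N (MvPolynomial.C : K →+* V), N_choose k hi]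
  have hχb : ∀ j, χ (b j) = LambdaOps.lam j z := by
    intro j
    rcases j with _ | j
    · simp [b, LambdaOps.lam_zero]
    · simp only [b, if_neg (Nat.succ_ne_zero j)]
      exact MvPolynomial.eval₂Hom_X' _ _ j
  have := congrArg χ key
  rw [← PowerSeries.coeff_map χ, map_subst_ser χ _ _ b hb0, map_aeval_int] at this
  have hl : PowerSeries.coeff n (lamSeries (algebraMap K A k * z)) =
      LambdaOps.lam n (algebraMap K A k * z) := by rw [lamSeries, PowerSeries.coeff_mk]
  rw [hl, hA.lam_mul n P hP]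
  convert this using 4
  · rename_i w
    rcases w with i | i
    · simp only [Sum.elim_inl, ← hKA _ k, hKb _ k]
      exact (MvPolynomial.eval₂Hom_C _ _ _).symm
    · simp [hχb]
  · simp only [hχb]; rfl
  · exact congrArg _ (RingHom.ext fun a => (MvPolynomial.eval₂Hom_C _ _ a).symm)

theorem gammaSeries_scalar (hA : IsSpecial A) (hKb : IsBinomial K) (hKA : IsLambdaAlg K A) (k : K)
    (z : A) : gammaSeries (algebraMap K A k * z) =
      (PowerSeries.map (algebraMap K A) (PowerSeries.mk fun l => Ring.choose k l)).subst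
        (gammaSeries z - 1) := by
  have h0 : PowerSeries.HasSubst (lamSeries z - 1) :=
    PowerSeries.HasSubst.of_constantCoeff_zero' (by simp [constantCoeff_lamSeries])
  rw [gammaSeries_eq, lamSeries_scalar hA hKb hKA, PowerSeries.subst_comp_subst_apply h0 hasSubst_gammaArg,
    gammaSeries_eq, PowerSeries.subst_sub hasSubst_gammaArg,
    ← PowerSeries.coe_substAlgHom hasSubst_gammaArg, map_one]

theorem SeriesIn.scalar {F : GradedFam A} (hF : ∀ (c : A) {n : ℕ} {x : A}, x ∈ F.M n → c * x ∈ F.M n)
    (hA : IsSpecial A) (hKb : IsBinomial K) (hKA : IsLambdaAlg K A) (k : K) {z : A}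
    (hz : SeriesIn F (gammaSeries z)) : SeriesIn F (gammaSeries (algebraMap K A k * z)) := by
  intro n
  have hs : PowerSeries.HasSubst (gammaSeries z - 1) :=
    PowerSeries.HasSubst.of_constantCoeff_zero' (by simp [constantCoeff_gammaSeries])
  rw [gammaSeries_scalar hA hKb hKA, PowerSeries.coeff_subst' hs]
  refine finsum_induction (fun x => x ∈ F.M n) (zero_mem _) (fun _ _ => add_mem) fun d => ?_
  refine hF _ ?_
  have h1 : SeriesIn F (gammaSeries z - 1) := fun i => by
    rw [map_sub]; exact sub_mem (hz i) (SeriesIn.one i)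
  have : ∀ d, SeriesIn F ((gammaSeries z - 1) ^ d) := fun d => by
    induction d with
    | zero => rw [pow_zero]; exact SeriesIn.one
    | succ d ih => rw [pow_succ]; exact ih.mul h1
  exact this d n

end Scalar

section Lin

/-- `γ^i z ∈ I` for `i ≥ 1` and `γ^m z ≡ c z` modulo `J`. -/
structure IsLin (I J : Ideal A) (m : ℕ) (c : A) (z : A) : Prop where
  mem : ∀ i, 1 ≤ i → gamma i z ∈ I
  lin : gamma m z - c * z ∈ J

variable {I J : Ideal A} {m : ℕ} {c : A}

theorem IsLin.zero (hm : 1 ≤ m) : IsLin I J m c (0 : A) := by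
  have h : ∀ i, 1 ≤ i → gamma i (0 : A) = 0 := fun i hi => by
    have := congrArg (PowerSeries.coeff i) (gammaSeries_zero (K := A))
    rwa [gammaSeries, PowerSeries.coeff_mk, PowerSeries.coeff_one, if_neg (by omega)] at this
  exact ⟨fun i hi => by rw [h i hi]; exact zero_mem _, by rw [h m hm]; simp⟩

theorem gamma_add' (n : ℕ) (x y : A) :
    gamma n (x + y) = ∑ i ∈ range (n + 1), gamma i x * gamma (n - i) y := by
  have := congrArg (PowerSeries.coeff n) (gammaSeries_add x y)
  rw [PowerSeries.coeff_mul, Finset.Nat.sum_antidiagonal_eq_sum_range_succ_mk] at this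
  simpa [gammaSeries] using this

theorem gamma_add_sub (hIJ : I * I ≤ J) {n : ℕ} (hn : 1 ≤ n) {x y : A}
    (hx : ∀ i, 1 ≤ i → i < n → gamma i x ∈ I) (hy : ∀ i, 1 ≤ i → i < n → gamma i y ∈ I) :
    gamma n (x + y) - (gamma n x + gamma n y) ∈ J := by
  obtain ⟨n, rfl⟩ := Nat.exists_eq_add_of_le' hn
  rw [gamma_add', Finset.sum_range_succ, Finset.sum_range_succ', Nat.sub_self, Nat.sub_zero,
    gamma_zero, gamma_zero, mul_one, one_mul, add_assoc, add_comm (gamma (n + 1) y),
    add_sub_cancel_right]
  refine Ideal.sum_mem _ fun i hi => hIJ (Ideal.mul_mem_mul ?_ ?_)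
  · rw [Finset.mem_range] at hi
    exact hx _ (by omega) (by omega)
  · rw [Finset.mem_range] at hi
    exact hy _ (by omega) (by omega)

theorem IsLin.add (hIJ : I * I ≤ J) (hm : 1 ≤ m) {x y : A} (hx : IsLin I J m c x)
    (hy : IsLin I J m c y) : IsLin I J m c (x + y) := by
  refine ⟨fun i hi => ?_, ?_⟩
  · rw [gamma_add']
    refine Ideal.sum_mem _ fun j hj => ?_
    rcases Nat.eq_zero_or_pos j with rfl | hj0
    · exact Ideal.mul_mem_left _ _ (hy.mem _ (by simpa using hi))
    · exact Ideal.mul_mem_right _ _ (hx.mem j hj0)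
  · have h := gamma_add_sub hIJ hm (fun i hi _ => hx.mem i hi) fun i hi _ => hy.mem i hi
    rw [show gamma m (x + y) - c * (x + y) = (gamma m (x + y) - (gamma m x + gamma m y)) +
      (gamma m x - c * x) + (gamma m y - c * y) by ring]
    exact add_mem (add_mem h hx.lin) hy.lin

theorem IsLin.neg (hIJ : I * I ≤ J) (hm : 1 ≤ m) {x : A} (hx : IsLin I J m c x) :
    IsLin I J m c (-x) := by
  have h0 : ∀ i, 1 ≤ i → gamma i (-x + x) = 0 := fun i hi => by
    have := congrArg (PowerSeries.coeff i) (gammaSeries_zero (K := A))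
    rw [gammaSeries, PowerSeries.coeff_mk, PowerSeries.coeff_one, if_neg (by omega)] at this
    rw [neg_add_cancel, this]
  have hmem : ∀ i, 1 ≤ i → gamma i (-x) ∈ I := by
    intro i
    induction i using Nat.strong_induction_on with
    | _ i ih =>
      intro hi
      have h := h0 i hi
      rw [gamma_add', Finset.sum_range_succ, Nat.sub_self, gamma_zero x, mul_one] at h
      rw [eq_neg_of_add_eq_zero_right h]
      refine neg_mem (Ideal.sum_mem _ fun j hj => ?_)
      rw [Finset.mem_range] at hj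
      exact Ideal.mul_mem_left _ _ (hx.mem _ (by omega))
  refine ⟨hmem, ?_⟩
  have h := gamma_add_sub hIJ hm (fun i hi _ => hmem i hi) fun i hi _ => hx.mem i hi
  rw [h0 m hm, zero_sub] at h
  have h' := neg_mem h
  rw [neg_neg] at h'
  rw [show gamma m (-x) - c * -x = (gamma m (-x) + gamma m x) - (gamma m x - c * x) by ring]
  exact sub_mem h' hx.lin

theorem IsLin.sum (hIJ : I * I ≤ J) (hm : 1 ≤ m) {ι : Type*} (s : Finset ι) {f : ι → A}
    (h : ∀ i ∈ s, IsLin I J m c (f i)) : IsLin I J m c (∑ i ∈ s, f i) := by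
  classical
  induction s using Finset.induction with
  | empty => simpa using IsLin.zero hm
  | insert a s ha ih =>
    rw [Finset.sum_insert ha]
    exact (h a (Finset.mem_insert_self a s)).add hIJ hm
      (ih fun i hi => h i (Finset.mem_insert_of_mem hi))

theorem IsLin.scalar [Algebra K A] [BinomialRing K] (hA : IsSpecial A) (hKb : IsBinomial K)
    (hKA : IsLambdaAlg K A) (hIJ : I * I ≤ J) (hm : 1 ≤ m) (k : K) {z : A}
    (hz : IsLin I J m c z) : IsLin I J m c (algebraMap K A k * z) := by
  have hs : PowerSeries.HasSubst (gammaSeries z - 1) :=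
    PowerSeries.HasSubst.of_constantCoeff_zero' (by simp [constantCoeff_gammaSeries])
  have hpow : ∀ d i, PowerSeries.coeff i ((gammaSeries z - 1) ^ (d + 1)) ∈ I ^ (d + 1) := by
    intro d
    induction d with
    | zero =>
      intro i
      rw [zero_add, pow_one, pow_one]
      rcases Nat.eq_zero_or_pos i with rfl | hi
      · simp [constantCoeff_gammaSeries]
      · rw [map_sub, gammaSeries, PowerSeries.coeff_mk, PowerSeries.coeff_one, if_neg (by omega),
          sub_zero]
        exact hz.mem i hi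
    | succ d ih =>
      intro i
      rw [pow_succ (gammaSeries z - 1) (d + 1), pow_succ I (d + 1), PowerSeries.coeff_mul]
      refine Ideal.sum_mem _ fun q _ => Ideal.mul_mem_mul (ih q.1) ?_
      rcases Nat.eq_zero_or_pos q.2 with h0 | hi
      · simp [h0, constantCoeff_gammaSeries]
      · rw [map_sub, gammaSeries, PowerSeries.coeff_mk, PowerSeries.coeff_one, if_neg (by omega),
          sub_zero]
        exact hz.mem _ hi
  have key : ∀ n, 1 ≤ n → gamma n (algebraMap K A k * z) - algebraMap K A k * gamma n z ∈ I * I := by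
    intro n hn
    have h := congrArg (PowerSeries.coeff n) (gammaSeries_scalar hA hKb hKA k z)
    rw [gammaSeries, PowerSeries.coeff_mk, PowerSeries.coeff_subst' hs,
      finsum_eq_sum_of_support_subset (s := range (n + 1))] at h
    · rw [h, Finset.sum_range_succ', ← Nat.sub_add_cancel hn, Finset.sum_range_succ']
      simp only [zero_add, pow_zero, pow_one, PowerSeries.coeff_map, PowerSeries.coeff_mk,
        Ring.choose_zero_right, Ring.choose_one_right, map_one, map_sub, PowerSeries.coeff_one,
        if_neg (Nat.succ_ne_zero (n - 1)), sub_zero, smul_zero, mul_zero, one_mul, add_zero, smul_eq_mul, gammaSeries,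
        add_sub_cancel_right]
      refine Ideal.sum_mem _ fun i _ => Ideal.mul_mem_left _ _ ?_
      rw [← pow_two]
      exact Ideal.pow_le_pow_right (Nat.le_add_left 2 i) (hpow (i + 1) _)
    · intro d hd
      simp only [Function.mem_support, ne_eq] at hd
      by_contra hdn
      simp only [Finset.coe_range, Set.mem_Iio, not_lt] at hdn
      refine hd ?_
      rw [PowerSeries.coeff_of_lt_order (φ := (gammaSeries z - 1) ^ d), smul_zero]
      refine lt_of_lt_of_le ?_ (PowerSeries.le_order_pow_of_constantCoeff_eq_zero _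
        (by simp [constantCoeff_gammaSeries]))
      exact_mod_cast hdn
  refine ⟨fun i hi => ?_, ?_⟩
  · have h := Ideal.add_mem _ (Ideal.mul_le_right (key i hi))
      (Ideal.mul_mem_left _ (algebraMap K A k) (hz.mem i hi))
    rwa [sub_add_cancel] at h
  · rw [show gamma m (algebraMap K A k * z) - c * (algebraMap K A k * z) =
      (gamma m (algebraMap K A k * z) - algebraMap K A k * gamma m z) +
        algebraMap K A k * (gamma m z - c * z) by ring]
    exact add_mem (hIJ (key m hm)) (Ideal.mul_mem_left _ _ hz.lin)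

end Lin

end Groth.Agent.Lambda
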