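import Groth.Agent.Lambda.Newton

/-!
Small facts on elementary symmetric functions of inverse families.
-/

universe u

open Finset

namespace Groth.Agent.Lambda

variable {R : Type u} [CommRing R]

theorem esymm_eq_zero (s : Multiset R) {n : ℕ} (h : s.card < n) : s.esymm n = 0 := by
  rw [Multiset.esymm, Multiset.powersetCard_eq_empty _ h]
  simp

theorem esymm_cons_succ (a : R) (s : Multiset R) (n : ℕ) :
    (a ::ₘ s).esymm (n + 1) = s.esymm (n + 1) + a * s.esymm n := by
  simp [Multiset.esymm, Multiset.powersetCard_cons, Multiset.map_map, Function.comp_def,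
    Multiset.sum_map_mul_left]

theorem esymm_card (s : Multiset R) : s.esymm s.card = s.prod := by
  induction s using Multiset.induction with
  | empty => simp [esymm_zero']
  | cons a s ih =>
    rw [Multiset.card_cons, esymm_cons_succ, esymm_eq_zero s (by omega), ih, zero_add,
      Multiset.prod_cons]

theorem sum_neg_one_pow_esymm (s : Multiset R) :
    ∑ i ∈ range (s.card + 1), (-1) ^ i * s.esymm i = (s.map fun u => 1 - u).prod := by
  induction s using Multiset.induction with
  | empty => simp [esymm_zero']
  | cons a s ih =>
    rw [Multiset.card_cons, Multiset.map_cons, Multiset.prod_cons, ← ih, Finset.sum_range_succ',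
      esymm_zero']
    simp only [esymm_cons_succ]
    rw [sub_mul, one_mul, Finset.mul_sum]
    have h : ∑ i ∈ range (s.card + 1), (-1 : R) ^ (i + 1) * (s.esymm (i + 1) + a * s.esymm i) =
        (∑ i ∈ range (s.card + 1), (-1 : R) ^ (i + 1) * s.esymm (i + 1)) -
          ∑ i ∈ range (s.card + 1), a * ((-1) ^ i * s.esymm i) := by
      rw [← Finset.sum_sub_distrib]
      exact Finset.sum_congr rfl fun i _ => by ring
    rw [h, Finset.sum_range_succ (fun i => (-1 : R) ^ (i + 1) * s.esymm (i + 1)),
      esymm_eq_zero s (by omega : s.card < s.card + 1), mul_zero, add_zero,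
      Finset.sum_range_succ' (fun i => (-1 : R) ^ i * s.esymm i), esymm_zero']
    ring

theorem esymm_inv_mul_prod (v : R → R) (s : Multiset R) (hv : ∀ u ∈ s, v u * u = 1) :
    ∀ i ≤ s.card, (s.map v).esymm (s.card - i) * s.prod = s.esymm i := by
  induction s using Multiset.induction with
  | empty =>
    intro i hi
    obtain rfl : i = 0 := by simpa using hi
    simp [esymm_zero']
  | cons a s ih =>
    have ih := ih fun u hu => hv u (Multiset.mem_cons_of_mem hu)
    have ha := hv a (Multiset.mem_cons_self a s)
    intro i hi
    rw [Multiset.card_cons] at hi ⊢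
    rw [Multiset.map_cons, Multiset.prod_cons]
    rcases Nat.lt_or_ge i (s.card + 1) with hlt | hge
    · rw [show s.card + 1 - i = (s.card - i) + 1 by omega, esymm_cons_succ]
      match i with
      | 0 =>
        rw [esymm_eq_zero _ (by rw [Multiset.card_map]; omega), zero_add, esymm_zero']
        have := ih 0 (Nat.zero_le _)
        rw [esymm_zero'] at this
        linear_combination (v a * a) * this + ha
      | j + 1 =>
        rw [esymm_cons_succ, show s.card - (j + 1) + 1 = s.card - j by omega]
        have h1 := ih j (by omega)
        have h2 := ih (j + 1) (by omega)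
        linear_combination a * h1 + (v a * a) * h2 + s.esymm (j + 1) * ha
    · obtain rfl : i = s.card + 1 := by omega
      rw [Nat.sub_self, esymm_zero', one_mul, esymm_cons_succ, esymm_eq_zero s (by omega),
        esymm_card, zero_add]

end Groth.Agent.Lambda
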