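import Groth.Agent.Lambda.Gamma

/-!
Positive structures: line elements, the splitting principle, Adams operations.
-/

universe u

open Finset LambdaRing

namespace Groth.Agent.Lambda

variable {K : Type u} [CommRing K] [LambdaOps K] (P : PosStructure K)

theorem lam_one_eq_zero_of_pos (P : PosStructure K) : ∀ k : ℕ, 2 ≤ k → LambdaOps.lam k (1 : K) = 0 := fun k hk =>
  P.lam_eq_zero 1 (by simpa using P.natCast_mem 1 one_pos) k (by rw [map_one]; exact_mod_cast hk)

theorem sum_map_mul_product {R : Type*} [CommRing R] {α β : Type*} (s : Multiset α) (t : Multiset β) (f : α → R)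
    (g : β → R) : ((s ×ˢ t).map fun p => f p.1 * g p.2).sum = (s.map f).sum * (t.map g).sum := by
  induction s using Multiset.induction with
  | empty => simp
  | cons a s ih =>
    simp [Multiset.cons_product, Multiset.map_map, Function.comp_def, ih, Multiset.sum_map_mul_left,
      add_mul]

theorem isLine_one : P.IsLine (1 : K) :=
  ⟨by simpa using P.natCast_mem 1 one_pos, map_one _⟩

variable {P}

theorem line_lam {u : K} (hu : P.IsLine u) (j : ℕ) (hj : 2 ≤ j) : LambdaOps.lam j u = 0 :=
  P.lam_eq_zero u hu.1 j (by rw [hu.2]; exact_mod_cast hj)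

theorem line_mul {u v : K} (hu : P.IsLine u) (hv : P.IsLine v) : P.IsLine (u * v) :=
  ⟨P.mul_mem u v hu.1 hv.1, by rw [map_mul, hu.2, hv.2, one_mul]⟩

theorem line_pow {u : K} (hu : P.IsLine u) : ∀ k : ℕ, P.IsLine (u ^ k)
  | 0 => by simpa using isLine_one P
  | k + 1 => by rw [pow_succ]; exact line_mul (line_pow hu k) hu

theorem aug_sum_lines {s : Multiset K} (hs : ∀ u ∈ s, P.IsLine u) : P.aug s.sum = s.card := by
  rw [map_multiset_sum, Multiset.map_congr rfl (fun u hu => (hs u hu).2)]
  simp

theorem lam_sum_lines {s : Multiset K} (hs : ∀ u ∈ s, P.IsLine u) (n : ℕ) :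
    LambdaOps.lam n s.sum = s.esymm n :=
  lam_sum_line s (fun u hu => line_lam (hs u hu)) n

theorem adamsOp_sum_lines {s : Multiset K} (hs : ∀ u ∈ s, P.IsLine u) {k : ℕ} (hk : 1 ≤ k) :
    adamsOp k s.sum = (s.map (· ^ k)).sum :=
  adamsOp_sum_line s (fun u hu => line_lam (hs u hu)) hk

theorem adamsOp_line {u : K} (hu : P.IsLine u) {k : ℕ} (hk : 1 ≤ k) : adamsOp k u = u ^ k := by
  have := adamsOp_sum_lines (P := P) (s := {u}) (by simp [hu]) hk
  simpa using this

theorem gamma_sum_lines {s : Multiset K} (hs : ∀ u ∈ s, P.IsLine u) (k : ℕ) :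
    gamma k (s.sum - (s.card : K)) = (s.map (· - 1)).esymm k :=
  gamma_sum_line_sub (lam_one_eq_zero_of_pos P) s (fun u hu => line_lam (hs u hu)) k

section Hom

variable {L : Type u} [CommRing L] [LambdaOps L]

theorem map_adamsOp {f : K →+* L} (hf : IsLambdaHom f) (k : ℕ) (x : K) :
    f (adamsOp k x) = adamsOp k (f x) := by
  rw [adamsOp_eq, adamsOp_eq, map_N]
  congr 1
  funext j
  exact hf j x

theorem map_gamma {f : K →+* L} (hf : IsLambdaHom f) (k : ℕ) (x : K) :
    f (gamma k x) = gamma k (f x) := by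
  rw [gamma, gamma]
  split_ifs with h
  · exact map_one f
  · rw [map_sum]
    refine Finset.sum_congr rfl fun j _ => ?_
    rw [map_mul, map_natCast]
    split_ifs
    · rw [map_zero]
    · rw [hf]

theorem isExtension_id (P : PosStructure K) : IsExtension P P (RingHom.id K) :=
  ⟨fun _ _ => rfl, Function.injective_id, fun _ => rfl, fun _ h => h⟩

variable {Q : PosStructure L}

theorem isExtension_comp {M : Type u} [CommRing M] [LambdaOps M] {R : PosStructure M}
    {f : K →+* L} {g : L →+* M} (hf : IsExtension P Q f) (hg : IsExtension Q R g) :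
    IsExtension P R (g.comp f) :=
  ⟨fun i x => by rw [RingHom.comp_apply, RingHom.comp_apply, hf.isLambdaHom, hg.isLambdaHom],
    hg.injective.comp hf.injective, fun x => by rw [RingHom.comp_apply, hg.aug_comp, hf.aug_comp],
    fun e he => hg.pos_subset _ (hf.pos_subset e he)⟩

theorem line_map {f : K →+* L} (hf : IsExtension P Q f) {u : K} (hu : P.IsLine u) :
    Q.IsLine (f u) :=
  ⟨hf.pos_subset u hu.1, by rw [hf.aug_comp, hu.2]⟩

end Hom

/-- Splitting of a finite family of positive elements. -/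
theorem exists_split_list (hK : HasSplitting K P) (l : List K) (hl : ∀ e ∈ l, e ∈ P.pos) :
    ∃ (L : PosLambdaRing.{u}) (f : K →+* L.carrier), IsExtension P L.posStr f ∧
      HasSplitting L.carrier L.posStr ∧
      ∀ e ∈ l, ∃ s : Multiset L.carrier, (∀ u ∈ s, L.posStr.IsLine u) ∧ s.sum = f e := by
  induction l with
  | nil => exact ⟨⟨K, P⟩, RingHom.id K, isExtension_id P, hK, by simp⟩
  | cons e l ih =>
    obtain ⟨L, f, hf, ⟨C, hC, hsplit⟩, hs⟩ := ih fun e he => hl e (List.mem_cons_of_mem _ he)
    obtain ⟨L', hL', g, hg, s, hs1, hs2⟩ :=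
      hsplit _ hC (f e) (hf.pos_subset e (hl e List.mem_cons_self))
    refine ⟨L', g.comp f, isExtension_comp hf hg, ⟨C, hL', hsplit⟩, fun e' he' => ?_⟩
    rcases List.mem_cons.mp he' with rfl | he'
    · exact ⟨s, hs1, hs2⟩
    · obtain ⟨t, ht1, ht2⟩ := hs e' he'
      refine ⟨t.map g, fun u hu => ?_, by rw [← map_multiset_sum, ht2]; rfl⟩
      obtain ⟨v, hv, rfl⟩ := Multiset.mem_map.mp hu
      exact line_map hg (ht1 v hv)

theorem exists_split (hK : HasSplitting K P) {e : K} (he : e ∈ P.pos) :
    ∃ (L : PosLambdaRing.{u}) (f : K →+* L.carrier), IsExtension P L.posStr f ∧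
      HasSplitting L.carrier L.posStr ∧
      ∃ s : Multiset L.carrier, (∀ u ∈ s, L.posStr.IsLine u) ∧ s.sum = f e ∧
        (s.card : ℤ) = P.aug e := by
  obtain ⟨L, f, hf, hL, hs⟩ := exists_split_list hK [e] (by simpa)
  obtain ⟨s, hs1, hs2⟩ := hs e List.mem_cons_self
  exact ⟨L, f, hf, hL, s, hs1, hs2, by rw [← aug_sum_lines hs1, hs2, hf.aug_comp]⟩

section Adams

variable (P)

theorem rescale_derivative (a : K) (φ : PowerSeries K) :
    PowerSeries.derivative K (PowerSeries.rescale a φ) =
      a • PowerSeries.rescale a (PowerSeries.derivative K φ) := by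
  ext n
  simp only [PowerSeries.coeff_derivative, PowerSeries.coeff_rescale, PowerSeries.coeff_smul,
    smul_eq_mul, pow_succ]
  ring

theorem adams_succ (j : ℕ) (x : K) : adams P (j + 1) x = adamsOp (j + 1) x := by
  have hu : (PowerSeries.rescale (-1 : K) (lamSeries x)).invOfUnit 1 =
      PowerSeries.rescale (-1 : K) ((lamSeries x).invOfUnit 1) := by
    have h1 : PowerSeries.rescale (-1 : K) (lamSeries x) *
        PowerSeries.rescale (-1 : K) ((lamSeries x).invOfUnit 1) = 1 := by
      rw [← map_mul, PowerSeries.mul_invOfUnit _ _ (by rw [constantCoeff_lamSeries]; rfl), map_one]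
    have hc : PowerSeries.constantCoeff (PowerSeries.rescale (-1 : K) (lamSeries x)) = 1 := by
      rw [← PowerSeries.coeff_zero_eq_constantCoeff_apply, PowerSeries.coeff_rescale, pow_zero,
        one_mul, PowerSeries.coeff_zero_eq_constantCoeff_apply, constantCoeff_lamSeries]
    calc _ = (PowerSeries.rescale (-1 : K) (lamSeries x)).invOfUnit 1 *
        (PowerSeries.rescale (-1 : K) (lamSeries x) *
          PowerSeries.rescale (-1 : K) ((lamSeries x).invOfUnit 1)) := by rw [h1, mul_one]
      _ = _ := by rw [← mul_assoc, PowerSeries.invOfUnit_mul _ _ (by rw [hc]; rfl), one_mul]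
  rw [adams, adamsSeries, hu, rescale_derivative, mul_assoc, smul_mul_assoc, ← map_mul, map_sub,
    PowerSeries.coeff_succ_C, PowerSeries.coeff_succ_X_mul, PowerSeries.coeff_smul,
    PowerSeries.coeff_rescale]
  simp [adamsOp, logDerivSeries]

theorem adams_zero (x : K) : adams P 0 x = (P.aug x : K) := by
  rw [adams, adamsSeries, map_sub]
  simp [PowerSeries.coeff_zero_eq_constantCoeff]

theorem adams_eq {j : ℕ} (hj : 1 ≤ j) (x : K) : adams P j x = adamsOp j x := by
  obtain ⟨i, rfl⟩ := Nat.exists_eq_add_of_le' hj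
  exact adams_succ P i x

variable {P}

theorem adamsOp_one_pos (P : PosStructure K) {k : ℕ} (hk : 1 ≤ k) : adamsOp k (1 : K) = 1 :=
  adamsOp_one_of hk (lam_one_eq_zero_of_pos P)

theorem adamsOp_mul_pos (hK : HasSplitting K P) {k : ℕ} (hk : 1 ≤ k) (x y : K) :
    adamsOp k (x * y) = adamsOp k x * adamsOp k y := by
  let ψ : K →+ K := AddMonoidHom.mk' (adamsOp k) (adamsOp_add hk)
  have key : ∀ e ∈ P.pos, ∀ e' ∈ P.pos, ψ (e * e') = ψ e * ψ e' := by
    intro e he e' he'
    obtain ⟨L, f, hf, -, hs⟩ := exists_split_list hK [e, e'] (by simp [he, he'])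
    obtain ⟨s, hs1, hs2⟩ := hs e (by simp)
    obtain ⟨t, ht1, ht2⟩ := hs e' (by simp)
    refine hf.injective ?_
    change f (adamsOp k (e * e')) = f (adamsOp k e * adamsOp k e')
    rw [map_mul, map_adamsOp hf.isLambdaHom, map_adamsOp hf.isLambdaHom,
      map_adamsOp hf.isLambdaHom, map_mul, ← hs2, ← ht2, adamsOp_sum_lines hs1 hk,
      adamsOp_sum_lines ht1 hk]
    have hprod : s.sum * t.sum = ((s ×ˢ t).map fun p => p.1 * p.2).sum := by
      rw [sum_map_mul_product s t (fun u => u) (fun v => v), Multiset.map_id', Multiset.map_id']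
    rw [hprod, adamsOp_sum_lines (P := L.posStr) (fun w hw => ?_) hk]
    · rw [← sum_map_mul_product s t (· ^ k) (· ^ k), Multiset.map_map]
      simp [Function.comp_def, mul_pow]
    · obtain ⟨p, hp, rfl⟩ := Multiset.mem_map.mp hw
      rw [Multiset.mem_product] at hp
      exact line_mul (hs1 _ hp.1) (ht1 _ hp.2)
  obtain ⟨e, f, he, hf, rfl⟩ := P.exists_sub x
  obtain ⟨e', f', he', hf', rfl⟩ := P.exists_sub y
  change ψ _ = ψ _ * ψ _
  simp only [sub_mul, mul_sub, map_sub, key e he e' he', key e he f' hf', key f hf e' he',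
    key f hf f' hf']

theorem adamsOp_adamsOp_pos (hK : HasSplitting K P) {i j : ℕ} (hi : 1 ≤ i) (hj : 1 ≤ j) (x : K) :
    adamsOp i (adamsOp j x) = adamsOp (i * j) x := by
  have key : ∀ e ∈ P.pos, adamsOp i (adamsOp j e) = adamsOp (i * j) e := by
    intro e he
    obtain ⟨L, f, hf, -, s, hs1, hs2, -⟩ := exists_split hK he
    refine hf.injective ?_
    rw [map_adamsOp hf.isLambdaHom, map_adamsOp hf.isLambdaHom, map_adamsOp hf.isLambdaHom, ← hs2,
      adamsOp_sum_lines hs1 hj, adamsOp_sum_lines hs1 (Nat.mul_pos hi hj),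
      adamsOp_sum_lines (P := L.posStr) (fun w hw => ?_) hi, Multiset.map_map]
    · refine congrArg Multiset.sum (Multiset.map_congr rfl fun u _ => ?_)
      rw [Function.comp_apply, ← pow_mul, mul_comm i j]
    · obtain ⟨v, hv, rfl⟩ := Multiset.mem_map.mp hw
      exact line_pow (hs1 v hv) j
  obtain ⟨e, f, he, hf, rfl⟩ := P.exists_sub x
  have hsub : ∀ k : ℕ, 1 ≤ k → ∀ a b : K, adamsOp k (a - b) = adamsOp k a - adamsOp k b :=
    fun k hk a b => (AddMonoidHom.mk' (adamsOp k) (adamsOp_add hk)).map_sub a b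
  rw [hsub j hj, hsub i hi, hsub (i * j) (Nat.mul_pos hi hj), key e he, key f hf]

theorem aug_adams (hK : HasSplitting K P) (j : ℕ) (x : K) : P.aug (adams P j x) = P.aug x := by
  match j with
  | 0 => rw [adams_zero, map_intCast, Int.cast_id]
  | j + 1 =>
    have key : ∀ e ∈ P.pos, P.aug (adamsOp (j + 1) e) = P.aug e := by
      intro e he
      obtain ⟨L, f, hf, -, s, hs1, hs2, -⟩ := exists_split hK he
      rw [← hf.aug_comp, ← hf.aug_comp e, map_adamsOp hf.isLambdaHom, ← hs2,
        adamsOp_sum_lines hs1 (by omega), map_multiset_sum, map_multiset_sum, Multiset.map_map]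
      refine congrArg Multiset.sum (Multiset.map_congr rfl fun u hu => ?_)
      rw [Function.comp_apply, map_pow, (hs1 u hu).2, one_pow]
    obtain ⟨e, f, he, hf, rfl⟩ := P.exists_sub x
    rw [adams_succ]
    have hsub := (AddMonoidHom.mk' (adamsOp (j + 1))
      (adamsOp_add (K := K) (k := j + 1) (by omega))).map_sub e f
    change adamsOp (j + 1) (e - f) = adamsOp (j + 1) e - adamsOp (j + 1) f at hsub
    rw [hsub, map_sub, key e he, key f hf, ← map_sub]

end Adams

theorem gammaFiltration_zero (x : K) : x ∈ gammaFiltration P 0 := by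
  rw [gammaFiltration, if_pos rfl]
  trivial

theorem prod_gamma_mem {n : ℕ} (l : List (ℕ × K)) (hl : ∀ p ∈ l, P.aug p.2 = 0)
    (hn : n ≤ (l.map Prod.fst).sum) :
    (l.map fun p => gamma p.1 p.2).prod ∈ gammaFiltration P n := by
  rw [gammaFiltration]
  split_ifs
  · trivial
  · exact AddSubgroup.subset_closure ⟨l, hl, hn, rfl⟩

theorem gammaFiltration_induction {n : ℕ} (hn : n ≠ 0) {motive : K → Prop} {x : K}
    (hx : x ∈ gammaFiltration P n)
    (mem : ∀ l : List (ℕ × K), (∀ p ∈ l, P.aug p.2 = 0) → n ≤ (l.map Prod.fst).sum →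
      motive (l.map fun p => gamma p.1 p.2).prod)
    (zero : motive 0) (add : ∀ x y, motive x → motive y → motive (x + y))
    (neg : ∀ x, motive x → motive (-x)) : motive x := by
  rw [gammaFiltration, if_neg hn] at hx
  induction hx using AddSubgroup.closure_induction with
  | mem x hx => obtain ⟨l, h1, h2, rfl⟩ := hx; exact mem l h1 h2
  | zero => exact zero
  | add x y _ _ h1 h2 => exact add x y h1 h2
  | neg x _ h => exact neg x h

theorem gammaFiltration_mul_mem {n : ℕ} (a : K) {x : K} (hx : x ∈ gammaFiltration P n) :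
    a * x ∈ gammaFiltration P n := by
  rcases eq_or_ne n 0 with rfl | hn
  · exact gammaFiltration_zero _
  · have hsplit : a = (a - (P.aug a : K)) + (P.aug a : K) := by ring
    rw [hsplit, add_mul, ← zsmul_eq_mul]
    refine add_mem ?_ (zsmul_mem hx _)
    refine gammaFiltration_induction (motive := fun z => (a - (P.aug a : K)) * z ∈ _) hn hx
      (fun l h1 h2 => ?_) (by simp) (fun y z hy hz => by rw [mul_add]; exact add_mem hy hz)
      fun y hy => by rw [mul_neg]; exact neg_mem hy
    have := prod_gamma_mem (P := P) (n := n) ((1, a - (P.aug a : K)) :: l) (fun p hp => by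
      rcases List.mem_cons.mp hp with rfl | hp
      · simp
      · exact h1 p hp) (by simp; omega)
    simpa [gamma_one] using this

theorem gammaFiltration_mul {m n : ℕ} {x y : K} (hx : x ∈ gammaFiltration P m)
    (hy : y ∈ gammaFiltration P n) : x * y ∈ gammaFiltration P (m + n) := by
  rcases eq_or_ne m 0 with rfl | hm
  · rw [zero_add]; exact gammaFiltration_mul_mem x hy
  rcases eq_or_ne n 0 with rfl | hn
  · rw [add_zero, mul_comm]; exact gammaFiltration_mul_mem y hx
  refine gammaFiltration_induction (motive := fun z => z * y ∈ _) hm hx (fun l h1 h2 => ?_)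
    (by simp) (fun y' z hy' hz => by rw [add_mul]; exact add_mem hy' hz)
    fun y' hy' => by rw [neg_mul]; exact neg_mem hy'
  refine gammaFiltration_induction (motive := fun z => _ * z ∈ _) hn hy (fun l' h1' h2' => ?_)
    (by simp) (fun y' z hy' hz => by rw [mul_add]; exact add_mem hy' hz)
    fun y' hy' => by rw [mul_neg]; exact neg_mem hy'
  have := prod_gamma_mem (P := P) (n := m + n) (l ++ l') (fun p hp => by
    rcases List.mem_append.mp hp with hp | hp
    exacts [h1 p hp, h1' p hp]) (by simp; omega)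
  simpa using this

theorem gammaFiltration_anti {m n : ℕ} (h : m ≤ n) {x : K} (hx : x ∈ gammaFiltration P n) :
    x ∈ gammaFiltration P m := by
  rcases eq_or_ne m 0 with rfl | hm
  · exact gammaFiltration_zero _
  exact gammaFiltration_induction (motive := fun z => z ∈ gammaFiltration P m) (by omega) hx
    (fun l h1 h2 => prod_gamma_mem l h1 (h.trans h2)) (zero_mem _) (fun _ _ => add_mem)
    fun _ => neg_mem

theorem mem_gammaFiltration_one {x : K} (hx : P.aug x = 0) : x ∈ gammaFiltration P 1 := by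
  simpa [gamma_one] using prod_gamma_mem (P := P) (n := 1) [(1, x)] (by simpa) (by simp)

end Groth.Agent.Lambda
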