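import Groth.Agent.Lambda.AdamsFil
import Mathlib.LinearAlgebra.Eigenspace.Basic
import Mathlib.RingTheory.TensorProduct.Basic
import Mathlib.Algebra.Polynomial.Derivative

/-!
Eigenspaces of the Adams operations on `ℚ ⊗ K`.
-/

universe u

open LambdaRing TensorProduct

namespace Groth.Agent.Lambda

section Linear

variable {V : Type u} [AddCommGroup V] [Module ℚ V] {Ψ : Module.End ℚ V} {c : ℕ → ℚ}
  {F : ℕ → Submodule ℚ V} {d : ℕ}

/-- A filtration on whose `m`-th step `Ψ` is `c m` modulo the next step. -/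
structure IsShift (Ψ : Module.End ℚ V) (c : ℕ → ℚ) (F : ℕ → Submodule ℚ V) (d : ℕ) : Prop where
  inj : Function.Injective c
  anti : ∀ {m n : ℕ}, m ≤ n → F n ≤ F m
  top : F 0 = ⊤
  bot : F (d + 1) = ⊥
  shift : ∀ (m : ℕ) (y : V), y ∈ F m → Ψ y - c m • y ∈ F (m + 1)

theorem IsShift.mem_succ (h : IsShift Ψ c F d) {m k : ℕ} (hkm : k ≠ m) {v : V}
    (hv : v ∈ Ψ.eigenspace (c m)) (hk : v ∈ F k) : v ∈ F (k + 1) := by
  have := h.shift k v hk
  rw [Module.End.mem_eigenspace_iff.mp hv, ← sub_smul] at this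
  exact (Submodule.smul_mem_iff _ (sub_ne_zero.mpr fun e => hkm (h.inj e).symm)).mp this

theorem IsShift.eigen_le (h : IsShift Ψ c F d) (m : ℕ) : Ψ.eigenspace (c m) ≤ F m := fun v hv => by
  suffices ∀ k ≤ m, v ∈ F k from this m le_rfl
  intro k
  induction k with
  | zero => intro; rw [h.top]; trivial
  | succ k ih => exact fun hk => h.mem_succ (by omega) hv (ih (by omega))

theorem IsShift.inf_eq_bot (h : IsShift Ψ c F d) (m : ℕ) :
    Ψ.eigenspace (c m) ⊓ F (m + 1) = ⊥ := by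
  rw [eq_bot_iff]
  rintro v ⟨hv, hv'⟩
  have : ∀ k, v ∈ F (m + 1 + k) := by
    intro k
    induction k with
    | zero => exact hv'
    | succ k ih => exact h.mem_succ (show m + 1 + k ≠ m by omega) hv ih
  have := h.anti (show d + 1 ≤ m + 1 + (d + 1) by omega) (this (d + 1))
  rwa [h.bot] at this

theorem IsShift.eq_sup (h : IsShift Ψ c F d) (m : ℕ) :
    Ψ.eigenspace (c m) ⊔ F (m + 1) = F m ∧
      F m ≤ ⨆ k ∈ Finset.Ico m (d + 1), Ψ.eigenspace (c k) := by
  induction hn : d + 1 - m using Nat.strong_induction_on generalizing m with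
  | _ n ih =>
    subst hn
    rcases le_or_gt (d + 1) m with hm | hm
    · have h0 : ∀ k, d + 1 ≤ k → F k = ⊥ := fun k hk => le_bot_iff.mp ((h.anti hk).trans h.bot.le)
      have hV : Ψ.eigenspace (c m) = ⊥ := le_bot_iff.mp ((h.eigen_le m).trans (h0 m hm).le)
      rw [h0 m hm, h0 (m + 1) (by omega), hV]
      simp
    obtain ⟨-, hle⟩ := ih (d + 1 - (m + 1)) (by omega) (m + 1) rfl
    set W := ⨆ k ∈ Finset.Ico (m + 1) (d + 1), Ψ.eigenspace (c k) with hW
    have hWF : W = F (m + 1) := le_antisymm (iSup₂_le fun k hk =>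
      (h.eigen_le k).trans (h.anti (Finset.mem_Ico.mp hk).1)) hle
    have hsurj : W ≤ W.map (Ψ - c m • LinearMap.id) := iSup₂_le fun k hk v hv => by
      have hne : c k - c m ≠ 0 := sub_ne_zero.mpr fun e => by
        have := h.inj e
        have := (Finset.mem_Ico.mp hk).1
        omega
      refine ⟨(c k - c m)⁻¹ • v, Submodule.smul_mem _ _
        (le_iSup₂ (f := fun k (_ : k ∈ Finset.Ico (m + 1) (d + 1)) => Ψ.eigenspace (c k)) k hk hv), ?_⟩
      simp only [LinearMap.sub_apply, LinearMap.smul_apply, LinearMap.id_apply, map_smul,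
        Module.End.mem_eigenspace_iff.mp hv, smul_smul, ← sub_smul, mul_comm (c m), ← mul_sub]
      rw [inv_mul_cancel₀ hne, one_smul]
    have key : F m ≤ Ψ.eigenspace (c m) ⊔ F (m + 1) := by
      intro y hy
      obtain ⟨y', hy', he⟩ := hsurj (hWF.ge (h.shift m y hy))
      refine Submodule.mem_sup.mpr ⟨y - y', ?_, y', hWF.le hy', sub_add_cancel y y'⟩
      simp only [LinearMap.sub_apply, LinearMap.smul_apply, LinearMap.id_apply] at he
      rw [Module.End.mem_eigenspace_iff, map_sub, smul_sub, ← sub_eq_zero,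
        show Ψ y - Ψ y' - (c m • y - c m • y') = (Ψ y - c m • y) - (Ψ y' - c m • y') by abel, he,
        sub_self]
    refine ⟨le_antisymm (sup_le (h.eigen_le m) (h.anti (Nat.le_succ m))) key,
      key.trans (sup_le ?_ ?_)⟩
    · exact le_iSup₂ (f := fun k (_ : k ∈ Finset.Ico m (d + 1)) => Ψ.eigenspace (c k)) m
        (by simp; omega)
    · rw [← hWF]
      exact biSup_mono fun k hk => by simp only [Finset.mem_Ico] at hk ⊢; omega

theorem IsShift.iSup_eq_top (h : IsShift Ψ c F d) :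
    (⨆ m ∈ Finset.range (d + 1), Ψ.eigenspace (c m)) = ⊤ := by
  rw [eq_top_iff, ← h.top, Finset.range_eq_Ico]
  exact (h.eq_sup 0).2

theorem IsShift.eigen_le_of_commute (h : IsShift Ψ c F d) {Φ : Module.End ℚ V} {e : ℕ → ℚ}
    (h' : IsShift Φ e F d) (hc : ∀ v, Ψ (Φ v) = Φ (Ψ v)) (m : ℕ) :
    Ψ.eigenspace (c m) ≤ Φ.eigenspace (e m) := fun v hv => by
  rw [Module.End.mem_eigenspace_iff, ← sub_eq_zero, ← Submodule.mem_bot (R := ℚ), ← h.inf_eq_bot m]
  refine ⟨Submodule.sub_mem _ ?_ (Submodule.smul_mem _ _ hv), h'.shift m v (h.eigen_le m hv)⟩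
  exact Module.End.mem_eigenspace_iff.mpr
    (by rw [hc, Module.End.mem_eigenspace_iff.mp hv, map_smul])

end Linear

section Tensor

variable {K : Type u} [CommRing K] [LambdaOps K] {P : PosStructure K}

/-- The `ℚ`-span of the image of the γ-filtration. -/
noncomputable def ratFil (P : PosStructure K) (n : ℕ) : Submodule ℚ (ℚ ⊗[ℤ] K) :=
  Submodule.span ℚ ((fun x : K => (1 : ℚ) ⊗ₜ[ℤ] x) '' (gammaFiltration P n : Set K))

theorem one_tmul_natCast_mul (a : ℕ) (x : K) :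
    (1 : ℚ) ⊗ₜ[ℤ] ((a : K) * x) = (a : ℚ) • ((1 : ℚ) ⊗ₜ[ℤ] x) := by
  rw [← nsmul_eq_mul, tmul_smul, Nat.cast_smul_eq_nsmul]

theorem ratFil_zero (P : PosStructure K) : ratFil P 0 = ⊤ := by
  rw [eq_top_iff]
  intro z hz
  clear hz
  induction z using TensorProduct.induction_on with
  | zero => exact zero_mem _
  | tmul q x =>
    rw [show q ⊗ₜ[ℤ] x = q • ((1 : ℚ) ⊗ₜ[ℤ] x) by rw [smul_tmul', smul_eq_mul, mul_one]]
    exact Submodule.smul_mem _ _ (Submodule.subset_span ⟨x, gammaFiltration_zero x, rfl⟩)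
  | add a b ha hb => exact add_mem ha hb

theorem isShift_ratFil (hK : HasSplitting K P) {d : ℕ} (hd : gammaFiltration P (d + 1) = ⊥)
    {j : ℕ} (hj : 2 ≤ j) (Ψ : ℚ ⊗[ℤ] K →ₗ[ℚ] ℚ ⊗[ℤ] K)
    (hΨ : ∀ x : K, Ψ (1 ⊗ₜ[ℤ] x) = 1 ⊗ₜ[ℤ] LambdaRing.adams P j x) :
    IsShift Ψ (fun m => (j : ℚ) ^ m) (ratFil P) d where
  inj a b h := Nat.pow_right_injective hj (by simp only at h; exact_mod_cast h)
  anti h := Submodule.span_mono (Set.image_mono fun x hx => gammaFiltration_anti h hx)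
  top := ratFil_zero P
  bot := by
    rw [ratFil, hd, AddSubgroup.coe_bot, Set.image_singleton, tmul_zero,
      Submodule.span_singleton_eq_bot]
  shift m y hy := by
    induction hy using Submodule.span_induction with
    | mem y hy =>
      obtain ⟨x, hx, rfl⟩ := hy
      rw [hΨ, adams_eq P (le_trans one_le_two hj), ← Nat.cast_pow (α := ℚ),
        ← one_tmul_natCast_mul, Nat.cast_pow, ← tmul_sub]
      exact Submodule.subset_span ⟨_, adamsOp_sub_mem hK (le_trans one_le_two hj) hx, rfl⟩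
    | zero => simp
    | add a b _ _ ha hb =>
      rw [map_add, smul_add, add_sub_add_comm]
      exact add_mem ha hb
    | smul q a _ ha =>
      rw [map_smul, smul_comm, ← smul_sub]
      exact Submodule.smul_mem _ _ ha

theorem ext_one_tmul {M : Type*} [AddCommGroup M] [Module ℚ M] {f g : ℚ ⊗[ℤ] K →ₗ[ℚ] M}
    (h : ∀ x : K, f (1 ⊗ₜ[ℤ] x) = g (1 ⊗ₜ[ℤ] x)) : f = g := by
  refine LinearMap.ext fun z => ?_
  induction z using TensorProduct.induction_on with
  | zero => simp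
  | tmul q x =>
    rw [show q ⊗ₜ[ℤ] x = q • ((1 : ℚ) ⊗ₜ[ℤ] x) by rw [smul_tmul', smul_eq_mul, mul_one], map_smul,
      map_smul, h]
  | add a b ha hb => rw [map_add, map_add, ha, hb]

theorem adams_commute (hK : HasSplitting K P) {i j : ℕ} (hi : 1 ≤ i) (hj : 1 ≤ j)
    (Ψi Ψj : ℚ ⊗[ℤ] K →ₗ[ℚ] ℚ ⊗[ℤ] K)
    (hΨi : ∀ x : K, Ψi (1 ⊗ₜ[ℤ] x) = 1 ⊗ₜ[ℤ] LambdaRing.adams P i x)
    (hΨj : ∀ x : K, Ψj (1 ⊗ₜ[ℤ] x) = 1 ⊗ₜ[ℤ] LambdaRing.adams P j x) (v : ℚ ⊗[ℤ] K) :
    Ψi (Ψj v) = Ψj (Ψi v) := by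
  refine LinearMap.congr_fun (f := Ψi ∘ₗ Ψj) (g := Ψj ∘ₗ Ψi) (ext_one_tmul fun x => ?_) v
  simp only [LinearMap.comp_apply, hΨi, hΨj, adams_eq P hi, adams_eq P hj,
    adamsOp_adamsOp_pos hK hi hj, adamsOp_adamsOp_pos hK hj hi, mul_comm i j]

end Tensor

section Log

open Polynomial

/-- The truncated logarithm `∑_{n ≤ d} (-1)^n X^(n+1)/(n+1)`. -/
noncomputable def logPoly (d : ℕ) : ℚ[X] :=
  ∑ n ∈ Finset.range (d + 1), C ((-1 : ℚ) ^ n / ((n : ℚ) + 1)) * X ^ (n + 1)

theorem derivative_logPoly (d : ℕ) :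
    derivative (logPoly d) * (1 + X) = 1 - (-X) ^ (d + 1) := by
  have h : derivative (logPoly d) = ∑ n ∈ Finset.range (d + 1), (-X) ^ n := by
    rw [logPoly, map_sum]
    refine Finset.sum_congr rfl fun n _ => ?_
    rw [derivative_C_mul, derivative_X_pow, Nat.add_sub_cancel, ← mul_assoc, ← C_mul, Nat.cast_succ,
      div_mul_cancel₀ _ (by positivity), neg_pow (X : ℚ[X]), C_pow, C_neg, C_1]
  rw [h, show (1 + X : ℚ[X]) = 1 - -X by ring, geom_sum_mul_neg]

theorem logPoly_comp_dvd (d j : ℕ) :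
    (X : ℚ[X]) ^ (d + 1) ∣ (logPoly d).comp ((1 + X) ^ j - 1) - C (j : ℚ) * logPoly d := by
  set w : ℚ[X] := (1 + X) ^ j - 1 with hw
  set F := (logPoly d).comp w - C (j : ℚ) * logPoly d with hF
  have hXw : X ∣ w := by
    rw [X_dvd_iff, hw, coeff_zero_eq_eval_zero]
    simp
  have h1 : derivative F * (1 + X) =
      C (j : ℚ) * ((-X) ^ (d + 1) - (-w) ^ (d + 1)) := by
    have hL := congrArg (fun p => p.comp w) (derivative_logPoly d)
    simp only [mul_comp, add_comp, one_comp, X_comp, sub_comp, pow_comp, neg_comp] at hL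
    have hwj : derivative w * (1 + X) = C (j : ℚ) * (1 + w) := by
      rw [hw]
      rcases j with _ | j
      · simp
      · rw [derivative_sub, derivative_one, sub_zero, derivative_pow, map_add derivative,
          derivative_one, derivative_X, zero_add, mul_one, Nat.add_sub_cancel, add_sub_cancel,
          mul_assoc, ← pow_succ]
    rw [hF, derivative_sub, derivative_comp, derivative_C_mul]
    linear_combination (derivative (logPoly d)).comp w * hwj + C (j : ℚ) * hL -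
      C (j : ℚ) * derivative_logPoly d
  have h2 : (X : ℚ[X]) ^ (d + 1) ∣ derivative F := by
    refine (IsCoprime.pow_left ⟨-1, 1, by ring⟩).dvd_of_dvd_mul_right (z := 1 + X) ?_
    rw [h1]
    refine dvd_mul_of_dvd_right (dvd_sub ?_ ?_) _
    · rw [neg_pow]; exact dvd_mul_left _ _
    · rw [neg_pow]; exact dvd_mul_of_dvd_right (pow_dvd_pow_of_dvd hXw _) _
  rw [X_pow_dvd_iff] at h2 ⊢
  intro k hk
  rcases k with _ | k
  · rw [hF, coeff_zero_eq_eval_zero]
    simp [eval_comp, hw, logPoly, eval_finsetSum]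
  · have := h2 k (by omega)
    rw [coeff_derivative] at this
    exact (mul_eq_zero.mp this).resolve_right (by positivity)

end Log

end Groth.Agent.Lambda
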