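import Groth.Agent.Lambda.Universal
import Mathlib.RingTheory.Localization.Basic
import Mathlib.RingTheory.Localization.FractionRing

/-!
Binomial rings: Newton sums of the binomial coefficients and an injection into a `ℚ`-algebra.
-/

universe u

open Finset LambdaRing

namespace Groth.Agent.Lambda

attribute [local instance] BinomialRing.toIsAddTorsionFree

variable {K : Type u} [CommRing K] [BinomialRing K]

theorem choose_succ_mul (x : K) (n : ℕ) :
    Ring.choose x (n + 1) * ((n : K) + 1) = Ring.choose x n * (x - n) := by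
  have h1 := Ring.descPochhammer_eq_factorial_smul_choose x (n + 1)
  have h2 := Ring.descPochhammer_eq_factorial_smul_choose x n
  apply nsmul_right_injective (M := K) (n := n.factorial) (Nat.factorial_ne_zero n)
  dsimp only
  rw [descPochhammer_succ_right, Polynomial.smeval_mul, Polynomial.smeval_sub,
    Polynomial.smeval_X, Polynomial.smeval_natCast, h2, Nat.factorial_succ] at h1
  simp only [nsmul_eq_mul, Nat.cast_mul, Nat.cast_succ, pow_zero, pow_one, mul_one] at h1 ⊢
  linear_combination -h1

theorem N_choose (x : K) {k : ℕ} (hk : 1 ≤ k) : N (fun j => Ring.choose x j) k = x := by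
  refine N_eq_of_derivative (p := fun _ => x) (Ring.choose_zero_right x) ?_ hk
  rw [derivative_iff]
  intro n
  induction n with
  | zero => simp
  | succ n ih =>
    rw [Finset.sum_range_succ]
    have : ∀ i ∈ range (n + 1), Ring.choose x i * ((-1) ^ (n + 1 - i) * x) =
        -(Ring.choose x i * ((-1) ^ (n - i) * x)) := by
      intro i hi
      rw [Finset.mem_range] at hi
      rw [Nat.sub_add_comm (by omega : i ≤ n), pow_succ]
      ring
    rw [Finset.sum_congr rfl this, Finset.sum_neg_distrib, ← ih, choose_succ_mul x (n + 1),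
      Nat.sub_self, pow_zero, one_mul]
    push_cast
    ring

variable (K) in
/-- `K ⊗ ℚ`, as a localization. -/
abbrev RatLoc : Type u := Localization (Algebra.algebraMapSubmonoid K (nonZeroDivisors ℤ))

omit [BinomialRing K] in
theorem isUnit_int {n : ℤ} (hn : n ∈ nonZeroDivisors ℤ) :
    IsUnit (Int.castRingHom (RatLoc K) n) := by
  have h := IsLocalization.map_units (RatLoc K)
    (⟨algebraMap ℤ K n, ⟨n, hn, rfl⟩⟩ : Algebra.algebraMapSubmonoid K (nonZeroDivisors ℤ))
  simpa using h

noncomputable instance ratLocAlgebra : Algebra ℚ (RatLoc K) :=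
  (IsLocalization.lift (M := nonZeroDivisors ℤ) (S := ℚ) (g := Int.castRingHom (RatLoc K))
    fun y => isUnit_int y.2).toAlgebra

theorem toRatLoc_injective : Function.Injective (algebraMap K (RatLoc K)) := by
  refine IsLocalization.injective (RatLoc K) (M := Algebra.algebraMapSubmonoid K (nonZeroDivisors ℤ)) ?_
  rintro _ ⟨n, hn, rfl⟩
  refine mem_nonZeroDivisors_iff_right.mpr fun y hy => ?_
  have hn0 : n ≠ 0 := nonZeroDivisors.ne_zero hn
  rw [show (algebraMap ℤ K) n = (n : K) from by simp, mul_comm, ← zsmul_eq_mul] at hy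
  exact zsmul_right_injective hn0 (by simpa using hy)

section Generic

variable {L : Type u} [CommRing L] [Algebra ℚ L] (f : K →+* L)

theorem map_choose_eq_E (x : K) (n : ℕ) : f (Ring.choose x n) = E (fun _ => f x) n :=
  eq_E (e := fun j => f (Ring.choose x j)) (by simp) _ n fun k hk _ => by
    rw [← map_N, N_choose x hk]

theorem lam_mul_of_isBinomial [LambdaOps K] (hf : Function.Injective f) (hKb : IsBinomial K)
    (n : ℕ) (P : MvPolynomial (Fin n ⊕ Fin n) ℤ) (hP : IsMulPoly n P) (x y : K) :
    LambdaOps.lam n (x * y) = MvPolynomial.aeval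
      (Sum.elim (fun k : Fin n => LambdaOps.lam ((k : ℕ) + 1) x)
        (fun k : Fin n => LambdaOps.lam ((k : ℕ) + 1) y)) P := by
  apply hf
  have h := U_mul hP (fun j => f (Ring.choose x j)) (fun j => f (Ring.choose y j)) (by simp)
    (by simp)
  rw [map_aeval_int, hKb n, map_choose_eq_E f, map_mul]
  trans E (fun k => N (fun j => f (Ring.choose x j)) k * N (fun j => f (Ring.choose y j)) k) n
  · refine E_congr n fun k hk _ => ?_
    rw [← map_N, ← map_N, N_choose x hk, N_choose y hk]
  · rw [← h]
    refine congrArg (fun g => MvPolynomial.aeval g P) (funext fun z => ?_)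
    rcases z with i | i <;> simp only [Sum.elim_inl, Sum.elim_inr, hKb (i.1 + 1)]

theorem lam_lam_of_isBinomial [LambdaOps K] (hf : Function.Injective f) (hKb : IsBinomial K)
    (i j : ℕ) (Q : MvPolynomial (Fin (i * j)) ℤ) (hQ : IsCompPoly i j Q) (x : K) :
    LambdaOps.lam j (LambdaOps.lam i x) =
      MvPolynomial.aeval (fun k : Fin (i * j) => LambdaOps.lam ((k : ℕ) + 1) x) Q := by
  apply hf
  have h := U_comp hQ (fun j => f (Ring.choose x j)) (by simp)
  rw [map_aeval_int, hKb j, map_choose_eq_E f, hKb i, map_choose_eq_E f]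
  trans E (fun k => E (fun m => N (fun j => f (Ring.choose x j)) (m * k)) i) j
  · refine E_congr j fun k hk _ => ?_
    refine E_congr i fun m hm _ => ?_
    rw [← map_N, N_choose x (Nat.mul_pos hm hk)]
  · rw [← h]
    refine congrArg (fun g => MvPolynomial.aeval g Q) (funext fun l => ?_)
    rw [hKb (l.1 + 1)]

end Generic

theorem isSpecial_of_isBinomial [LambdaOps K] (hKb : IsBinomial K) : IsSpecial K where
  lam_one_eq_zero n hn := by
    rw [hKb, ← Nat.cast_one, Ring.choose_natCast, Nat.choose_eq_zero_of_lt hn, Nat.cast_zero]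
  lam_mul := lam_mul_of_isBinomial (algebraMap K (RatLoc K)) toRatLoc_injective hKb
  lam_lam := lam_lam_of_isBinomial (algebraMap K (RatLoc K)) toRatLoc_injective hKb

end Groth.Agent.Lambda
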