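import Groth.Agent.Lambda.FilTools

/-!
γ-operations of monomials in the γ-filtration.
-/

universe u v

open Finset LambdaRing

namespace Groth.Agent.Lambda

attribute [local instance] freeLam

variable {K : Type u} [CommRing K] [LambdaOps K] {A : Type v} [CommRing A] [LambdaOps A]

/-- `(-1)^(m-1) (m-1)!` -/
def linConst (A : Type v) [CommRing A] (m : ℕ) : A := (-1) ^ (m - 1) * ((m - 1).factorial : A)

theorem exists_lin_poly (hA : IsSpecial A) (m : ℕ) (u : FZ) :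
    ∃ v : FZ, iotaQ v = gamma m (iotaQ u) - linConst FQ m * iotaQ u ∧
      ∀ x : ℕ → A, gamma m (theta x u) - linConst A m * theta x u = theta x v := by
  obtain ⟨v, hv, hv'⟩ := exists_gamma_poly.{v} u m
  refine ⟨v - linConst FZ m * u, ?_, fun x => ?_⟩
  · simp [linConst, hv]
  · rw [hv' A _ _ hA x]
    simp [linConst]

theorem gamma_theta_mem (F : GradedFam A) (hanti : ∀ {a b : ℕ}, a ≤ b → F.M b ≤ F.M a)
    (hA : IsSpecial A) {x : ℕ → A} (hx : ∀ a i, gamma (i + 1) (x a) ∈ F.M (i + 1)) {u : FZ} {n : ℕ}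
    (hn : 1 ≤ n) (hu : iotaQ u ∈ wF.M n) (i : ℕ) : gamma i (theta x u) ∈ F.M i := by
  obtain ⟨v, hv, hv'⟩ := exists_gamma_poly.{v} u i
  rw [hv' A _ _ hA x]
  exact theta_mem F hanti hx (hv ▸ gamma_mem (constantCoeff_iotaQ hn hu) i)

theorem gammaFil_lam (ε : A →+* K) (hA : IsSpecial A) {x : ℕ → A} (hx : ∀ a, ε (x a) = 0)
    {u : FZ} {m : ℕ} (hm : 1 ≤ m) (hu : iotaQ u ∈ wF.M m) :
    IsLin (gammaFil ε m) (gammaFil ε (m + 1)) m (linConst A m) (theta x u) := by
  refine ⟨fun i hi => ?_, ?_⟩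
  · obtain ⟨v, hv, hv'⟩ := exists_gamma_poly.{v} u i
    rw [hv' A _ _ hA x]
    exact theta_mem_gammaFil ε hx (hv ▸ gamma_mem_of_mem hu (constantCoeff_iotaQ hm hu) hi)
  · obtain ⟨v, hv, hv'⟩ := exists_lin_poly hA m u
    rw [hv' x]
    exact theta_mem_gammaFil ε hx (hv ▸ gamma_sub_mem hm hu)

theorem gammaFil_lam_top (ε : A →+* K) (hA : IsSpecial A) {x : ℕ → A} (hx : ∀ a, ε (x a) = 0)
    {d i : ℕ} (hd : 1 ≤ d) (hx0 : ∀ j, d < j → gamma j (x 0) = 0)
    {u : FZ} (hu : iotaQ u ∈ wF.M (d + i)) (hτ : tau 0 d (iotaQ u) = 0) :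
    IsLin (Ideal.span {gamma d (x 0)} * gammaFil ε i)
      (Ideal.span {gamma d (x 0)} * gammaFil ε (i + 1)) (d + i) (linConst A (d + i)) (theta x u) := by
  have h0 := constantCoeff_iotaQ (le_trans hd (Nat.le_add_right d i)) hu
  refine ⟨fun j hj => ?_, ?_⟩
  · obtain ⟨v, hv, hv'⟩ := exists_gamma_poly.{v} u j
    rw [hv' A _ _ hA x]
    have := theta_mem_top ε hx hd hx0 (hv ▸ gamma_mem_of_mem hu h0 hj)
      (hv ▸ gamma_tau 0 d hτ h0 hj)
    rwa [Nat.add_sub_cancel_left] at this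
  · obtain ⟨v, hv, hv'⟩ := exists_lin_poly hA (d + i) u
    rw [hv' x]
    have := theta_mem_top ε hx hd hx0
      (hv ▸ gamma_sub_mem (le_trans hd (Nat.le_add_right d i)) hu :
        iotaQ v ∈ wF.M (d + i + 1))
      (by rw [hv, map_sub, gamma_tau 0 d hτ h0 (le_trans hd (Nat.le_add_right d i)), map_mul, hτ,
        mul_zero, sub_zero])
    rwa [show d + i + 1 - d = i + 1 by omega] at this

theorem gamma_theta_top (ε : A →+* K) (hA : IsSpecial A) {x : ℕ → A} (hx : ∀ a, ε (x a) = 0)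
    {d : ℕ} (hd : 1 ≤ d) (hx0 : ∀ j, d < j → gamma j (x 0) = 0)
    {u : FZ} {n : ℕ} (hn : 1 ≤ n) (hu : iotaQ u ∈ wF.M n) (hτ : tau 0 d (iotaQ u) = 0)
    {i : ℕ} (hi : 1 ≤ i) :
    gamma i (theta x u) ∈ Ideal.span {gamma d (x 0)} * gammaFil ε (i - d) := by
  have h0 := constantCoeff_iotaQ hn hu
  obtain ⟨v, hv, hv'⟩ := exists_gamma_poly.{v} u i
  rw [hv' A _ _ hA x]
  exact theta_mem_top ε hx hd hx0 (hv ▸ gamma_mem h0 i) (hv ▸ gamma_tau 0 d hτ h0 hi)

theorem gammaFil_induction [Algebra K A] (ε : A →ₐ[K] K) {n : ℕ} {motive : A → Prop}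
    (zero : motive 0) (add : ∀ x y, motive x → motive y → motive (x + y))
    (scalar : ∀ (k : K) x, motive x → motive (algebraMap K A k * x))
    (gen : ∀ (x : ℕ → A) (u : FZ), (∀ a, ε (x a) = 0) → iotaQ u ∈ wF.M n → motive (theta x u))
    {z : A} (hz : z ∈ gammaFil (ε : A →+* K) n) : motive z := by
  suffices ∀ a, motive (a * z) by simpa using this 1
  induction hz using Submodule.span_induction with
  | mem y hy =>
    obtain ⟨l, h1, h2, rfl⟩ := hy
    intro a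
    obtain ⟨x, u, hx, hu, hxu⟩ := exists_theta_rep (ε : A →+* K) l h1
    rw [← hxu, show a = algebraMap K A (ε a) + (a - algebraMap K A (ε a)) by ring, add_mul]
    refine add _ _ (scalar _ _ (gen x u hx (wF_anti h2 hu))) ?_
    rw [← gamma_one (a - algebraMap K A (ε a)), ← theta_consPoly]
    refine gen _ _ (consFam_ker (ε : A →+* K) (by simp) hx) (wF_anti ?_ (consPoly_mem 0 hu))
    omega
  | zero => intro a; simpa using zero
  | add x y _ _ ihx ihy => intro a; rw [mul_add]; exact add _ _ (ihx a) (ihy a)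
  | smul b x _ ih => intro a; rw [smul_eq_mul, ← mul_assoc]; exact ih _

end Groth.Agent.Lambda
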