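import Groth.Agent.Lambda.Newton

/-!
The universal polynomials of λ-rings in terms of power sums, and their consequences for the Adams
operations of a (pre-)λ-ring.
-/

universe u v

open Finset MvPolynomial LambdaRing

namespace Groth.Agent.Lambda

theorem map_aeval_int {σ : Type*} {A : Type u} {B : Type v} [CommRing A] [CommRing B]
    [iA : Algebra ℤ A] [iB : Algebra ℤ B]
    (f : A →+* B) (g : σ → A) (P : MvPolynomial σ ℤ) :
    f (aeval g P) = aeval (fun i => f (g i)) P :=
  MvPolynomial.comp_aeval_apply g { f with commutes' := fun r => by simp } P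

theorem N_one {R : Type u} [CommRing R] {e : ℕ → R} (h : e 0 = 1) : N e 1 = e 1 := by
  have := recursion (derivative_ser h) 0
  simpa [h] using this.symm

theorem N_esymm_map {ι : Type*} {R : Type u} [CommRing R] (s : Finset ι) (f : ι → R) {k : ℕ}
    (hk : 1 ≤ k) : N (fun j => (s.val.map f).esymm j) k = ∑ a ∈ s, f a ^ k := by
  rw [N_esymm _ hk, Multiset.map_map]
  rfl

theorem map_esymm' {A : Type u} {B : Type v} [CommRing A] [CommRing B] (f : A →+* B)
    (s : Multiset A) (k : ℕ) : f (s.esymm k) = (s.map f).esymm k := by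
  simp only [Multiset.esymm, map_multiset_sum, Multiset.powersetCard_map, Multiset.map_map,
    Function.comp_def, map_multiset_prod]

theorem E_one {S : Type v} [CommRing S] [Algebra ℚ S] {n : ℕ} (hn : 2 ≤ n) :
    E (fun _ => (1 : S)) n = 0 := by
  have h := eq_E (e := fun j => ({1} : Multiset S).esymm j) (esymm_zero' _) (fun _ => (1 : S)) n
    fun k hk _ => by rw [N_esymm _ hk]; simp
  rw [← h, Multiset.esymm, Multiset.powersetCard_eq_empty]
  · simp
  · simp; omega

/-- The product polynomial in power sums. -/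
theorem U_mul {n : ℕ} {P : MvPolynomial (Fin n ⊕ Fin n) ℤ} (hP : IsMulPoly n P) {S : Type v}
    [CommRing S] [Algebra ℚ S] (a b : ℕ → S) (ha : a 0 = 1) (hb : b 0 = 1) :
    aeval (Sum.elim (fun i : Fin n => a (i.1 + 1)) fun i : Fin n => b (i.1 + 1)) P =
      E (fun k => N a k * N b k) n := by
  let p : ℕ → MvPolynomial (Fin n ⊕ Fin n) ℚ := ext fun j => X (Sum.inl j)
  let q : ℕ → MvPolynomial (Fin n ⊕ Fin n) ℚ := ext fun j => X (Sum.inr j)
  have key : aeval (Sum.elim (fun i : Fin n => E p (i.1 + 1)) fun i : Fin n => E q (i.1 + 1)) P =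
      E (fun k => p k * q k) n := by
    apply aeval_psum₂_injective n
    set φ := aeval (R := ℚ) (Sum.elim
      (fun i : Fin n => rename Sum.inl (psum (Fin n) ℚ (i.1 + 1)))
      (fun i : Fin n => rename (Sum.inr : Fin n → Fin n ⊕ Fin n) (psum (Fin n) ℚ (i.1 + 1)))) with hφ
    have hps : ∀ (ι : Fin n → Fin n ⊕ Fin n) (k : ℕ), 1 ≤ k →
        N (fun j => ((univ : Finset (Fin n)).val.map
          fun x => (X (ι x) : MvPolynomial (Fin n ⊕ Fin n) ℚ)).esymm j) k =
        rename ι (psum (Fin n) ℚ k) := by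
      intro ι k hk
      rw [N_esymm_map _ _ hk, psum, map_sum]
      simp
    have hp : ∀ k, 1 ≤ k → k ≤ n → φ (p k) = rename Sum.inl (psum (Fin n) ℚ k) := by
      intro k hk hk'
      simp only [p, ext_eq _ hk hk', hφ, aeval_X, Sum.elim_inl]
      rw [Nat.sub_add_cancel hk]
    have hq : ∀ k, 1 ≤ k → k ≤ n → φ (q k) = rename Sum.inr (psum (Fin n) ℚ k) := by
      intro k hk hk'
      simp only [q, ext_eq _ hk hk', hφ, aeval_X, Sum.elim_inr]
      rw [Nat.sub_add_cancel hk]
    have hA : ∀ (r : ℕ → MvPolynomial (Fin n ⊕ Fin n) ℚ) (ι : Fin n → Fin n ⊕ Fin n),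
        (∀ k, 1 ≤ k → k ≤ n → φ (r k) = rename ι (psum (Fin n) ℚ k)) → ∀ i : Fin n,
        φ (E r (i.1 + 1)) = rename ι (esymm (Fin n) ℚ (i.1 + 1)) := by
      intro r ι h i
      change φ.toRingHom (E r _) = _
      rw [map_E, esymm_eq_multiset_esymm, ← AlgHom.coe_toRingHom (rename ι), map_esymm',
        Multiset.map_map]
      refine (eq_E (esymm_zero' _) _ _ fun k hk hk' => ?_).symm
      change _ = φ (r k)
      rw [h k hk (by omega), ← hps ι k hk]
      congr 1
      funext j
      congr 2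
      funext x
      simp
    have hL := congrArg (MvPolynomial.map (Int.castRingHom ℚ)) hP.1
    rw [map_aeval_int] at hL
    change φ.toRingHom (aeval _ P) = φ.toRingHom (E _ n)
    rw [map_E, map_aeval_int]
    trans MvPolynomial.map (Int.castRingHom ℚ) (mulGen n n)
    · rw [← hL]
      congr 2
      funext z
      rcases z with i | i
      · simpa [map_rename, map_esymm] using hA p Sum.inl hp i
      · simpa [map_rename, map_esymm] using hA q Sum.inr hq i
    · rw [mulGen, map_esymm', Multiset.map_map]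
      refine eq_E (esymm_zero' _) _ _ fun k hk hk' => ?_
      rw [N_esymm_map _ _ hk, map_mul]
      change _ = φ (p k) * φ (q k)
      rw [hp k hk hk', hq k hk hk', psum, map_sum, map_sum, Fintype.sum_mul_sum,
        Fintype.sum_prod_type]
      simp [mul_pow]
  let ψ : MvPolynomial (Fin n ⊕ Fin n) ℚ →ₐ[ℚ] S :=
    aeval (Sum.elim (fun i : Fin n => N a (i.1 + 1)) fun i : Fin n => N b (i.1 + 1))
  have hp : ∀ k, 1 ≤ k → k ≤ n → ψ (p k) = N a k := by
    intro k hk hk'
    simp only [p, ext_eq _ hk hk', ψ, aeval_X, Sum.elim_inl]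
    rw [Nat.sub_add_cancel hk]
  have hq : ∀ k, 1 ≤ k → k ≤ n → ψ (q k) = N b k := by
    intro k hk hk'
    simp only [q, ext_eq _ hk hk', ψ, aeval_X, Sum.elim_inr]
    rw [Nat.sub_add_cancel hk]
  have := congrArg ψ.toRingHom key
  rw [map_aeval_int] at this
  have hE : ψ.toRingHom (E (fun k => p k * q k) n) = E (fun k => N a k * N b k) n := by
    rw [map_E]
    exact E_congr n fun k hk hk' => by
      rw [map_mul]
      exact congrArg₂ (· * ·) (hp k hk hk') (hq k hk hk')
  rw [← hE, ← this]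
  congr 2
  funext z
  rcases z with i | i <;> simp only [Sum.elim_inl, Sum.elim_inr] <;> symm
  · rw [map_E]
    exact (E_congr _ fun k hk hk' => hp k hk (by omega)).trans (E_N ha _)
  · rw [map_E]
    exact (E_congr _ fun k hk hk' => hq k hk (by omega)).trans (E_N hb _)

/-- The composition polynomial in power sums. -/
theorem U_comp {i j : ℕ} {Q : MvPolynomial (Fin (i * j)) ℤ} (hQ : IsCompPoly i j Q) {S : Type v}
    [CommRing S] [Algebra ℚ S] (a : ℕ → S) (ha : a 0 = 1) :
    aeval (fun l : Fin (i * j) => a (l.1 + 1)) Q =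
      E (fun k => E (fun m => N a (m * k)) i) j := by
  let p : ℕ → MvPolynomial (Fin (i * j)) ℚ := ext fun l => X l
  obtain ⟨hQ1, -⟩ := hQ
  have key : aeval (fun l : Fin (i * j) => E p (l.1 + 1)) Q =
      E (fun k => E (fun m => p (m * k)) i) j := by
    apply aeval_psum_injective (i * j)
    set φ := aeval (R := ℚ) fun l : Fin (i * j) => psum (Fin (i * j)) ℚ (l.1 + 1) with hφ
    have hp : ∀ k, 1 ≤ k → k ≤ i * j → φ (p k) = psum (Fin (i * j)) ℚ k := by
      intro k hk hk'
      simp only [p, ext_eq _ hk hk', hφ, aeval_X]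
      rw [Nat.sub_add_cancel hk]
    have hL := congrArg (MvPolynomial.map (Int.castRingHom ℚ)) hQ1
    rw [map_aeval_int] at hL
    change φ.toRingHom (aeval _ Q) = φ.toRingHom (E _ j)
    rw [map_E, map_aeval_int]
    trans MvPolynomial.map (Int.castRingHom ℚ) (compGen (i * j) i j)
    · rw [← hL]
      congr 2
      funext l
      simp only [map_esymm]
      rw [map_E, esymm_eq_multiset_esymm]
      refine (eq_E (esymm_zero' _) _ _ fun k hk hk' => ?_).symm
      rw [N_esymm_map _ _ hk]
      exact (hp k hk (by omega)).symm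
    · rw [compGen, map_esymm', Multiset.map_map]
      refine eq_E (esymm_zero' _) _ _ fun k hk hk' => ?_
      rw [N_esymm_map _ _ hk, map_E]
      refine Eq.trans ?_ (eq_E (e := fun m => ((univ : Finset (Fin (i * j))).val.map
        fun x => (X x : MvPolynomial (Fin (i * j)) ℚ) ^ k).esymm m) (esymm_zero' _)
        (fun m => φ (p (m * k))) i fun m hm hm' => ?_)
      · rw [Finset.esymm_map_val]
        refine Finset.sum_congr rfl fun s _ => ?_
        simp [map_prod, Finset.prod_pow]
      · rw [N_esymm_map _ _ hm, hp _ (Nat.mul_pos hm hk) (Nat.mul_le_mul hm' hk'), psum]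
        exact Finset.sum_congr rfl fun x _ => by rw [← pow_mul]; exact congrArg _ (Nat.mul_comm _ _)
  let ψ : MvPolynomial (Fin (i * j)) ℚ →ₐ[ℚ] S := aeval fun l : Fin (i * j) => N a (l.1 + 1)
  have hp : ∀ k, 1 ≤ k → k ≤ i * j → ψ (p k) = N a k := by
    intro k hk hk'
    simp only [p, ext_eq _ hk hk', ψ, aeval_X]
    rw [Nat.sub_add_cancel hk]
  have := congrArg ψ.toRingHom key
  rw [map_aeval_int] at this
  have hE : ψ.toRingHom (E (fun k => E (fun m => p (m * k)) i) j) =
      E (fun k => E (fun m => N a (m * k)) i) j := by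
    rw [map_E]
    refine E_congr j fun k hk hk' => ?_
    rw [map_E]
    exact E_congr i fun m hm hm' => hp _ (Nat.mul_pos hm hk) (Nat.mul_le_mul hm' hk')
  rw [← hE, ← this]
  congr 2
  funext l
  rw [map_E]
  exact ((E_congr _ fun k hk hk' => hp k hk (by omega)).trans (E_N ha _)).symm

section Pre

variable {K : Type u} [CommRing K] [LambdaOps K]

theorem adamsOp_eq (k : ℕ) (x : K) : adamsOp k x = N (fun j => LambdaOps.lam j x) k := by
  cases k <;> rfl

theorem adamsOp_add {k : ℕ} (hk : 1 ≤ k) (x y : K) :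
    adamsOp k (x + y) = adamsOp k x + adamsOp k y := by
  rw [adamsOp_eq, adamsOp_eq, adamsOp_eq,
    ← N_conv (LambdaOps.lam_zero x) (LambdaOps.lam_zero y) hk]
  congr 1
  funext j
  exact LambdaOps.lam_add j x y

theorem adamsOp_one_of {k : ℕ} (hk : 1 ≤ k)
    (h1 : ∀ n : ℕ, 2 ≤ n → LambdaOps.lam n (1 : K) = 0) : adamsOp k (1 : K) = 1 := by
  rw [adamsOp_eq, N_congr (e' := fun j => ({1} : Multiset K).esymm j) (LambdaOps.lam_zero _)
    (esymm_zero' _) k fun j hj _ => ?_, N_esymm _ hk]
  · simp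
  · obtain hj2 | hj2 := lt_or_ge j 2
    · obtain rfl : j = 1 := by omega
      rw [LambdaOps.lam_one]
      simp [Multiset.esymm, Multiset.powersetCard_one]
    · rw [h1 j hj2, Multiset.esymm, Multiset.powersetCard_eq_empty]
      · simp
      · simp; omega

theorem adamsOp_mul (hK : IsSpecial K)
    (hP : ∀ n : ℕ, ∃ P : MvPolynomial (Fin n ⊕ Fin n) ℤ, IsMulPoly n P)
    {k : ℕ} (hk : 1 ≤ k) (x y : K) : adamsOp k (x * y) = adamsOp k x * adamsOp k y := by
  choose P hP using hP
  let a : ℕ → MvPolynomial (Fin k ⊕ Fin k) ℤ := ext fun i => X (Sum.inl i)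
  let b : ℕ → MvPolynomial (Fin k ⊕ Fin k) ℤ := ext fun i => X (Sum.inr i)
  let c : ℕ → MvPolynomial (Fin k ⊕ Fin k) ℤ := fun l =>
    aeval (Sum.elim (fun i : Fin l => a (i.1 + 1)) fun i : Fin l => b (i.1 + 1)) (P l)
  let ι := MvPolynomial.map (σ := Fin k ⊕ Fin k) (Int.castRingHom ℚ)
  have hι : Function.Injective ι := MvPolynomial.map_injective _ Int.cast_injective
  have hc : ∀ l, ι (c l) = E (fun m => N (fun j => ι (a j)) m * N (fun j => ι (b j)) m) l := by
    intro l
    rw [map_aeval_int]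
    refine Eq.trans ?_ (U_mul (hP l) (fun j => ι (a j)) (fun j => ι (b j)) (by simp [a, ext_zero])
      (by simp [b, ext_zero]))
    congr 2
    funext z
    rcases z with i | i <;> rfl
  have hc0 : c 0 = 1 := hι (by rw [hc 0, E_zero, map_one])
  have key : N c k = N a k * N b k := by
    apply hι
    rw [map_mul, map_N, map_N, map_N, funext hc, N_E _ hk]
  let θ : MvPolynomial (Fin k ⊕ Fin k) ℤ →+* K := (aeval (Sum.elim
    (fun i : Fin k => LambdaOps.lam (i.1 + 1) x) fun i : Fin k => LambdaOps.lam (i.1 + 1) y)).toRingHom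
  have hθa : ∀ j, 1 ≤ j → j ≤ k → θ (a j) = LambdaOps.lam j x := by
    intro j hj hj'
    simp [θ, a, ext_eq _ hj hj', Nat.sub_add_cancel hj]
  have hθb : ∀ j, 1 ≤ j → j ≤ k → θ (b j) = LambdaOps.lam j y := by
    intro j hj hj'
    simp [θ, b, ext_eq _ hj hj', Nat.sub_add_cancel hj]
  have := congrArg θ key
  rw [map_mul, map_N, map_N, map_N] at this
  rw [adamsOp_eq, adamsOp_eq, adamsOp_eq,
    ← N_congr (e := fun j => θ (a j)) (e' := fun j => LambdaOps.lam j x) (by simp [a, ext_zero]) (LambdaOps.lam_zero x) k hθa,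
    ← N_congr (e := fun j => θ (b j)) (e' := fun j => LambdaOps.lam j y) (by simp [b, ext_zero]) (LambdaOps.lam_zero y) k hθb, ← this]
  refine N_congr ?_ ?_ k fun j hj hj' => ?_
  · exact LambdaOps.lam_zero _
  · simp [hc0]
  rw [map_aeval_int, hK.lam_mul j (P j) (hP j)]
  congr 2
  funext z
  rcases z with i | i <;> simp only [Sum.elim_inl, Sum.elim_inr]
  · rw [hθa _ (by omega) (by omega)]
  · rw [hθb _ (by omega) (by omega)]

/-- `ψ^k` as a ring homomorphism. -/
noncomputable def adamsHom (k : ℕ) (hk : 1 ≤ k) (h1 : adamsOp k (1 : K) = 1)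
    (hmul : ∀ x y : K, adamsOp k (x * y) = adamsOp k x * adamsOp k y) : K →+* K :=
  RingHom.mk' { toFun := adamsOp k, map_one' := h1, map_mul' := hmul } (adamsOp_add hk)

theorem adamsOp_comp (hK : IsSpecial K)
    (hP : ∀ n : ℕ, ∃ P : MvPolynomial (Fin n ⊕ Fin n) ℤ, IsMulPoly n P)
    (hQ : ∀ i j : ℕ, ∃ Q : MvPolynomial (Fin (i * j)) ℤ, IsCompPoly i j Q)
    {k k' : ℕ} (hk : 1 ≤ k) (hk' : 1 ≤ k') (x : K) :
    adamsOp k (adamsOp k' x) = adamsOp (k * k') x := by
  choose Q hQ using hQ
  let a : ℕ → MvPolynomial (Fin (k * k')) ℤ := ext fun i => X i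
  let c : ℕ → ℕ → MvPolynomial (Fin (k * k')) ℤ := fun l j =>
    aeval (fun i : Fin (l * j) => a (i.1 + 1)) (Q l j)
  let d : ℕ → MvPolynomial (Fin (k * k')) ℤ := fun l => N (c l) k
  let ι := MvPolynomial.map (σ := Fin (k * k')) (Int.castRingHom ℚ)
  have hι : Function.Injective ι := MvPolynomial.map_injective _ Int.cast_injective
  have hc : ∀ l j, ι (c l j) = E (fun m => E (fun r => N (fun s => ι (a s)) (r * m)) l) j := by
    intro l j
    rw [map_aeval_int]
    exact U_comp (hQ l j) (fun s => ι (a s)) (by simp [a, ext_zero])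
  have hc0 : ∀ l, c l 0 = 1 := fun l => hι (by rw [hc l 0, E_zero, map_one])
  have hd : ∀ l, ι (d l) = E (fun r => N (fun s => ι (a s)) (r * k)) l := by
    intro l
    rw [map_N, funext (hc l), N_E _ hk]
  have hd0 : d 0 = 1 := hι (by rw [hd 0, E_zero, map_one])
  have key : N d k' = N a (k * k') := by
    apply hι
    rw [map_N, map_N, funext hd, N_E _ hk', mul_comm k' k]
  let θ : MvPolynomial (Fin (k * k')) ℤ →+* K :=
    (aeval fun i : Fin (k * k') => LambdaOps.lam (i.1 + 1) x).toRingHom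
  have hθa : ∀ j, 1 ≤ j → j ≤ k * k' → θ (a j) = LambdaOps.lam j x := by
    intro j hj hj'
    simp [θ, a, ext_eq _ hj hj', Nat.sub_add_cancel hj]
  have h1 := adamsOp_one_of hk hK.lam_one_eq_zero
  let f := adamsHom k hk h1 (adamsOp_mul hK hP hk)
  have := congrArg θ key
  rw [map_N, map_N] at this
  rw [adamsOp_eq (k * k') x, ← N_congr (e := fun j => θ (a j)) (e' := fun j => LambdaOps.lam j x) (by simp [a, ext_zero]) (LambdaOps.lam_zero x) _ hθa,
    ← this, adamsOp_eq k' x]
  change f (N _ k') = _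
  rw [map_N]
  refine N_congr ?_ ?_ k' fun l hl hl' => ?_
  · simp [LambdaOps.lam_zero]
  · simp [hd0]
  change adamsOp k _ = θ (N (c l) k)
  rw [map_N, adamsOp_eq]
  refine N_congr ?_ ?_ k fun j hj hj' => ?_
  · exact LambdaOps.lam_zero _
  · simp [hc0]
  rw [map_aeval_int, hK.lam_lam l j (Q l j) (hQ l j)]
  congr 2
  funext i
  have hlj : l * j ≤ k * k' := by rw [mul_comm k k']; exact Nat.mul_le_mul hl' hj'
  rw [hθa _ (by omega) (by omega)]

end Pre

end Groth.Agent.Lambda
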