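import Groth.Agent.Lambda.FreeQ
import Groth.Agent.S8689

/-!
The λ-structure of the free λ-ring over `ℚ`, and the weights of its γ-operations.
-/

universe u

open Finset LambdaRing fwdDiff MvPolynomial

namespace Groth.Agent.Lambda

/-- The λ-operations on `FQ` with Adams operations `psi`. -/
@[reducible] noncomputable def freeLam : LambdaOps FQ where
  lam n x := E (fun k => psi k x) n
  lam_zero x := E_zero _
  lam_one x := by rw [← N_one (E_zero fun k => psi k x), N_E _ le_rfl, psi_one]
  lam_add n x y := by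
    rw [E_congr n (q := fun k => psi k x + psi k y) fun k _ _ => map_add _ x y, E_add]
    rfl

attribute [local instance] freeLam

theorem adamsOp_free {k : ℕ} (hk : 1 ≤ k) (x : FQ) : adamsOp k x = psi k x := by
  rw [adamsOp_eq]; exact N_E _ hk

theorem isSpecial_free : IsSpecial FQ :=
  Groth.Agent.S8689.result FQ (fun k hk => by rw [adamsOp_free hk, map_one])
    (fun k hk x y => by simp only [adamsOp_free hk, map_mul])
    fun k k' hk hk' x => by
      rw [adamsOp_free hk', adamsOp_free hk, adamsOp_free (Nat.mul_pos hk hk'), psi_psi]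

/-- The forward differences of `m ↦ ψ^m u` at `0`. -/
noncomputable def delta (u : FQ) (l : ℕ) : FQ := Δ_[1]^[l] (fun m => psi m u) 0

theorem psi_eq_sum_delta (u : FQ) (k : ℕ) :
    psi k u = ∑ l ∈ range (k + 1), (k.choose l : FQ) * delta u l := by
  have := shift_eq_sum_fwdDiff_iter 1 (fun m => psi m u) k 0
  simpa [delta, nsmul_eq_mul] using this

theorem delta_eq_N {u : FQ} (hu : constantCoeff u = 0) :
    ∀ l, N (fun j => gamma j u) l = delta u l := by
  intro l
  induction l using Nat.strong_induction_on with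
  | _ l ih =>
    rcases Nat.eq_zero_or_pos l with rfl | hl
    · rw [delta, Function.iterate_zero_apply, psi_zero, hu, map_zero]; rfl
    · have h := (adamsOp_eq_sum_choose u hl).symm.trans
        ((adamsOp_free hl u).trans (psi_eq_sum_delta u l))
      rw [Finset.sum_range_succ, Finset.sum_range_succ,
        Finset.sum_congr rfl fun i hi => by rw [ih i (Finset.mem_range.mp hi)]] at h
      simpa using add_left_cancel h

theorem gamma_eq_E {u : FQ} (hu : constantCoeff u = 0) (i : ℕ) :
    gamma i u = E (delta u) i :=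
  eq_E (e := fun j => gamma j u) (gamma_zero u) _ i fun k _ _ => delta_eq_N hu k

theorem delta_mem (u : FQ) (l : ℕ) : delta u l ∈ wF.M l := by
  have := isD_psi u l 0
  rwa [zero_add] at this

theorem gamma_mem {u : FQ} (hu : constantCoeff u = 0) (i : ℕ) : gamma i u ∈ wF.M i := by
  rw [gamma_eq_E hu]
  exact E_mem (fun c _ _ hx => wF_mul_mem _ hx) (delta_mem u) i

theorem delta_sub_mem {n : ℕ} {u : FQ} (hu : u ∈ wF.M n) (l : ℕ) :
    delta u l - (Δ_[1]^[l] (fun m : ℕ => (m : FQ) ^ n) 0) * u ∈ wF.M (n + 1) := by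
  rw [delta, fwdDiff_iter_eq_sum_shift, fwdDiff_iter_eq_sum_shift, Finset.sum_mul,
    ← Finset.sum_sub_distrib]
  refine AddSubgroup.sum_mem _ fun k _ => ?_
  rw [smul_mul_assoc, ← smul_sub]
  refine zsmul_mem ?_ _
  simpa using psi_sub_mem hu k

theorem delta_mem_of_mem {n : ℕ} {u : FQ} (hu : u ∈ wF.M n) (l : ℕ) : delta u l ∈ wF.M n := by
  have h := add_mem (wF_anti (Nat.le_succ n) (delta_sub_mem hu l))
    (wF_mul_mem (Δ_[1]^[l] (fun m : ℕ => (m : FQ) ^ n) 0) hu)
  simpa using h

theorem E_mem_of_pos {n : ℕ} {p : ℕ → FQ} (hp : ∀ k, 1 ≤ k → p k ∈ wF.M n) {i : ℕ} (hi : 1 ≤ i) :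
    E p i ∈ wF.M n := by
  obtain ⟨i, rfl⟩ := Nat.exists_eq_add_of_le' hi
  rw [E]
  refine wF_mul_mem _ (AddSubgroup.sum_mem _ fun k _ => wF_mul_mem _ (wF_mul_mem _ ?_))
  exact hp _ (Nat.le_add_left 1 _)

theorem gamma_mem_of_mem {n : ℕ} {u : FQ} (hu : u ∈ wF.M n) (hu0 : constantCoeff u = 0) {i : ℕ}
    (hi : 1 ≤ i) : gamma i u ∈ wF.M n := by
  rw [gamma_eq_E hu0]
  exact E_mem_of_pos (fun k _ => delta_mem_of_mem hu k) hi

theorem gamma_sub_mem {n : ℕ} (hn : 1 ≤ n) {u : FQ} (hu : u ∈ wF.M n) :
    gamma n u - (-1 : FQ) ^ (n - 1) * ((n - 1).factorial : FQ) * u ∈ wF.M (n + 1) := by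
  have hu0 : constantCoeff u = 0 := mem_wF_one.mp (wF_anti hn hu)
  obtain ⟨m, rfl⟩ := Nat.exists_eq_add_of_le' hn
  have hfac : Δ_[1]^[m + 1] (fun k : ℕ => (k : FQ) ^ (m + 1)) 0 = ((m + 1).factorial : FQ) := by
    have := congrFun (fwdDiff_iter_eq_factorial (R := FQ) (n := m + 1)) 0
    rw [fwdDiff_iter_eq_sum_shift] at this ⊢
    simpa using this
  have hd := delta_sub_mem hu (m + 1)
  rw [hfac] at hd
  rw [gamma_eq_E hu0, E, Fin.sum_univ_eq_sum_range
    (fun i => E (delta u) i * ((-1) ^ (m - i) * delta u (m - i + 1))), Finset.sum_range_succ',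
    E_zero, one_mul, Nat.sub_zero, mul_add, Nat.add_sub_cancel, add_sub_assoc]
  refine add_mem (wF_mul_mem _ (AddSubgroup.sum_mem _ fun i _ => ?_)) ?_
  · have h := wF.mul_mem (E_mem_of_pos (fun k _ => delta_mem_of_mem hu k) (Nat.le_add_left 1 i))
      (wF_mul_mem ((-1 : FQ) ^ (m - (i + 1))) (delta_mem_of_mem hu (m - (i + 1) + 1)))
    exact wF_anti (by omega) h
  · have hc : algebraMap ℚ FQ (1 / ((m : ℚ) + 1)) * ((m + 1).factorial : FQ) = (m.factorial : FQ) := by
      rw [← map_natCast (algebraMap ℚ FQ), ← map_natCast (algebraMap ℚ FQ), ← map_mul,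
        Nat.factorial_succ, Nat.cast_mul, Nat.cast_succ]
      congr 1
      have h : ((m : ℚ) + 1) ≠ 0 := by positivity
      rw [one_div, ← mul_assoc, inv_mul_cancel₀ h, one_mul]
    rw [← hc, show algebraMap ℚ FQ (1 / ((m : ℚ) + 1)) * ((-1) ^ m * delta u (m + 1)) -
        (-1) ^ m * (algebraMap ℚ FQ (1 / ((m : ℚ) + 1)) * ((m + 1).factorial : FQ)) * u =
      (algebraMap ℚ FQ (1 / ((m : ℚ) + 1)) * (-1) ^ m) *
        (delta u (m + 1) - ((m + 1).factorial : FQ) * u) by ring]
    exact wF_mul_mem _ hd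

section Tau

variable (a d : ℕ)

/-- Kill `γ^j x_a` for `j ≥ d`. -/
noncomputable def tau : FQ →ₐ[ℚ] FQ :=
  aeval fun p => if p.1 = a ∧ d ≤ p.2 + 1 then 0 else X p

/-- A sequence with `n` nonzero terms stays such under `z ↦ (1+z)^k - 1`. -/
theorem E_Lgen_eq_zero (k n : ℕ) {S : Type} [CommRing S] [Algebra ℚ S] (e : ℕ → S) (he0 : e 0 = 1)
    (he : ∀ j, n < j → e j = 0) {j : ℕ} (hj : n < j) :
    E (fun l => Lgen e (wk k ^ l)) j = 0 := by
  let e₀ : ℕ → MvPolynomial (Fin n) ℚ := ext fun i => X i
  let φ : MvPolynomial (Fin n) ℚ →ₐ[ℚ] S := aeval fun i => e (i.1 + 1)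
  have hφ : ∀ i, φ (e₀ i) = e i := by
    intro i
    rcases Nat.eq_zero_or_pos i with rfl | hi
    · simp [e₀, ext_zero, he0]
    rcases le_or_gt i n with hin | hin
    · simp [φ, e₀, ext_eq _ hi hin, Nat.sub_add_cancel hi]
    · simp [e₀, ext, hi.ne', show ¬ i - 1 < n by omega, he i hin]
  have key : E (fun l => Lgen e₀ (wk k ^ l)) j = 0 := by
    let s : Multiset (MvPolynomial (Fin n) ℚ) := (univ : Finset (Fin n)).val.map X
    let ε : MvPolynomial (Fin n) ℚ →ₐ[ℚ] MvPolynomial (Fin n) ℚ :=
      aeval fun i : Fin n => esymm (Fin n) ℚ (i.1 + 1)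
    have hε : ∀ i, ε (e₀ i) = s.esymm i := by
      intro i
      rcases Nat.eq_zero_or_pos i with rfl | hi
      · simp [e₀, ext_zero, esymm_zero']
      rcases le_or_gt i n with hin | hin
      · simp only [ε, e₀, ext_eq _ hi hin, aeval_X]
        rw [Nat.sub_add_cancel hi, esymm_eq_multiset_esymm]
      · rw [esymm_eq_zero s (by simp [s]; omega)]
        simp [e₀, ext, hi.ne', show ¬ i - 1 < n by omega]
    apply aeval_esymm_injective ℚ n
    change ε.toRingHom _ = ε _
    rw [map_E, map_zero, ← esymm_eq_zero (s.map fun x => Polynomial.aeval x (wk k))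
      (n := j) (by simp [s]; omega)]
    refine (eq_E (esymm_zero' _) _ j fun l hl _ => ?_).symm
    change _ = ε _
    rw [map_Lgen, funext hε, N_esymm _ hl, Multiset.map_map]
    have hgen : ∀ f : Polynomial ℚ, Lgen (fun i => s.esymm i) f =
        (s.map fun x => Polynomial.aeval x f - algebraMap ℚ _ (f.coeff 0)).sum := by
      intro f
      induction f using Polynomial.induction_on' with
      | add p q hp hq =>
        rw [map_add, hp, hq, ← Multiset.sum_map_add]
        refine congrArg Multiset.sum (Multiset.map_congr rfl fun x _ => ?_)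
        rw [map_add, Polynomial.coeff_add, map_add]; ring
      | monomial i c =>
        rw [Lgen_monomial]
        rcases Nat.eq_zero_or_pos i with rfl | hi
        · simp [show N (fun j => s.esymm j) 0 = 0 from rfl]
        · rw [N_esymm _ hi, Multiset.smul_sum, Multiset.map_map]
          refine congrArg Multiset.sum (Multiset.map_congr rfl fun x _ => ?_)
          simp [Polynomial.aeval_monomial, Polynomial.coeff_monomial, hi.ne', Algebra.smul_def]
    rw [hgen]
    refine congrArg Multiset.sum (Multiset.map_congr rfl fun x _ => ?_)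
    rw [Function.comp_apply, map_pow, Polynomial.coeff_zero_eq_eval_zero, Polynomial.eval_pow,
      show (wk k).eval 0 = 0 by simp [wk], zero_pow (by omega : l ≠ 0), map_zero, sub_zero]
  have := congrArg φ.toRingHom key
  rw [map_E, map_zero] at this
  refine (E_congr j fun l _ _ => ?_).trans this
  change _ = φ _
  rw [map_Lgen, funext hφ]

theorem tau_psi (k : ℕ) (u : FQ) : tau a d (psi k u) = tau a d (psi k (tau a d u)) := by
  refine AlgHom.congr_fun (φ₁ := (tau a d).comp (psi k))
    (φ₂ := ((tau a d).comp (psi k)).comp (tau a d)) (MvPolynomial.algHom_ext fun p => ?_) u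
  simp only [AlgHom.comp_apply]
  rw [show tau a d (X p) = if p.1 = a ∧ d ≤ p.2 + 1 then 0 else X p from aeval_X _ _]
  split_ifs with h
  · rw [map_zero, map_zero, ← gS_succ, psi_gS, h.1]
    change (tau a d).toRingHom _ = _
    rw [map_E]
    rcases Nat.eq_zero_or_pos d with hd | hd
    · refine E_zero_fun (Nat.le_add_left 1 _) fun l _ => ?_
      change tau a d _ = 0
      rw [map_Lgen]
      have : (fun j => tau a d (gS a j)) = fun j => if j = 0 then 1 else 0 := by
        funext j
        rcases j with _ | i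
        · simp [gS_zero]
        · simp [gS_succ, tau, hd]
      rw [this]
      have h0 : ∀ i, N (fun j => if j = 0 then (1 : FQ) else 0) i = 0 := by
        intro i
        rcases Nat.eq_zero_or_pos i with rfl | hi
        · rfl
        rw [N_congr (e' := fun j => (0 : Multiset FQ).esymm j) rfl (esymm_zero' _) i
          fun j hj _ => by rw [if_neg (by omega), esymm_eq_zero _ (by simp; omega)], N_esymm _ hi]
        simp
      generalize wk k ^ l = f
      induction f using Polynomial.induction_on' with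
      | add p q hp hq => rw [map_add, hp, hq, add_zero]
      | monomial i c => rw [Lgen_monomial, h0, smul_zero]
    · have hzero := E_Lgen_eq_zero k (d - 1) (fun j => tau a d (gS a j)) (by simp [gS_zero])
        (fun j hj => by
          obtain ⟨i, rfl⟩ := Nat.exists_eq_add_of_le' (show 1 ≤ j by omega)
          simp [gS_succ, tau, show d ≤ i + 1 by omega]) (j := p.2 + 1) (by omega)
      refine Eq.trans ?_ hzero
      exact E_congr _ fun l _ _ => map_Lgen _ _ _
  · rfl

theorem gamma_tau {u : FQ} (hu : tau a d u = 0) (hu0 : constantCoeff u = 0) {i : ℕ} (hi : 1 ≤ i) :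
    tau a d (gamma i u) = 0 := by
  rw [gamma_eq_E hu0]
  change (tau a d).toRingHom _ = _
  rw [map_E]
  refine E_zero_fun hi fun l _ => ?_
  change tau a d (delta u l) = 0
  rw [delta, fwdDiff_iter_eq_sum_shift, map_sum]
  refine Finset.sum_eq_zero fun k _ => ?_
  rw [map_zsmul, tau_psi, hu, map_zero, map_zero, smul_zero]

end Tau

end Groth.Agent.Lambda
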