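import Groth.Agent.Lambda.Gamma
import Groth.Agent.Lambda.Graded
import Groth.Agent.Lambda.EsymmInv
import Mathlib.Algebra.Group.ForwardDiff
import Mathlib.RingTheory.PowerSeries.Derivative

/-!
The free λ-ring over `ℚ` on countably many generators, in γ-coordinates: Adams operations, weights,
forward differences.
-/

universe u

open Finset LambdaRing fwdDiff

namespace Groth.Agent.Lambda

section Series

variable {R : Type u} [CommRing R]

/-- `1 / (1 + X)` -/
noncomputable def altGeom (R : Type u) [CommRing R] : PowerSeries R :=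
  PowerSeries.rescale (-1 : R) (PowerSeries.mk 1)

/-- `X / (1 + X)` -/
noncomputable def lamArg (R : Type u) [CommRing R] : PowerSeries R := PowerSeries.X * altGeom R

theorem altGeom_mul : altGeom R * (1 + PowerSeries.X) = 1 := by
  have := congrArg (PowerSeries.rescale (-1 : R)) (PowerSeries.mk_one_mul_one_sub_eq_one R)
  rw [map_mul, map_sub, map_one, PowerSeries.rescale_X, map_neg, map_one, neg_one_mul,
    sub_neg_eq_add] at this
  exact this

theorem hasSubst_lamArg : PowerSeries.HasSubst (lamArg R) :=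
  PowerSeries.HasSubst.of_constantCoeff_zero' (by simp [lamArg])

theorem subst_lamArg_gammaArg : (gammaArg R).subst (lamArg R) = PowerSeries.X := by
  have h : gammaArg R * (1 - PowerSeries.X) = PowerSeries.X := by
    rw [gammaArg, mul_assoc, PowerSeries.mk_one_mul_one_sub_eq_one, mul_one]
  have h' := congrArg (PowerSeries.substAlgHom (hasSubst_lamArg (R := R))) h
  rw [map_mul, map_sub, map_one, PowerSeries.substAlgHom_X, PowerSeries.coe_substAlgHom] at h'
  have hv : (1 - lamArg R) * (1 + PowerSeries.X) = 1 := by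
    rw [lamArg]
    linear_combination (-PowerSeries.X : PowerSeries R) * altGeom_mul (R := R)
  calc _ = (gammaArg R).subst (lamArg R) * ((1 - lamArg R) * (1 + PowerSeries.X)) := by
        rw [hv, mul_one]
    _ = lamArg R * (1 + PowerSeries.X) := by rw [← mul_assoc, h']
    _ = PowerSeries.X := by rw [lamArg, mul_assoc, altGeom_mul, mul_one]

theorem derivative_lamArg : PowerSeries.derivative R (lamArg R) = altGeom R ^ 2 := by
  have h : lamArg R * (1 + PowerSeries.X) = PowerSeries.X := by
    rw [lamArg, mul_assoc, altGeom_mul, mul_one]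
  have h' := congrArg (PowerSeries.derivative R) h
  rw [Derivation.leibniz, map_add, PowerSeries.derivative_one, PowerSeries.derivative_X, zero_add,
    smul_eq_mul, smul_eq_mul, mul_one] at h'
  simp only [lamArg] at h' ⊢
  linear_combination (altGeom R) * h' - (PowerSeries.derivative R (PowerSeries.X * altGeom R) +
    altGeom R) * altGeom_mul (R := R)

theorem coeff_X_pow_mul_altGeom_pow (n s : ℕ) (hs : s ≤ n) :
    PowerSeries.coeff n (lamArg R ^ s * altGeom R ^ 2) =
      (-1) ^ (n - s) * ((n + 1).choose (s + 1) : R) := by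
  rw [lamArg, mul_pow, mul_assoc, ← pow_add, PowerSeries.coeff_X_pow_mul', if_pos hs, altGeom,
    ← map_pow, PowerSeries.coeff_rescale, PowerSeries.mk_one_pow_eq_mk_choose_add,
    PowerSeries.coeff_mk, show s + 1 + (n - s) = n + 1 by omega]

/-- Power sums of the two sides of the substitution `t ↦ t / (1 + t)`. -/
theorem N_subst_lamArg (g : ℕ → R) (hg : g 0 = 1) {k : ℕ} (hk : 1 ≤ k) :
    N (fun j => PowerSeries.coeff j ((ser g).subst (lamArg R))) k =
      ∑ l ∈ range (k + 1), (k.choose l : R) * N g l := by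
  have hser : ser (fun j => PowerSeries.coeff j ((ser g).subst (lamArg R))) =
      (ser g).subst (lamArg R) := by
    ext j; simp [ser]
  have he0 : PowerSeries.coeff 0 ((ser g).subst (lamArg R)) = 1 := by
    rw [PowerSeries.coeff_subst' hasSubst_lamArg, finsum_eq_single _ 0 fun d hd => by
      simp [lamArg, hd]]
    simp [ser, hg]
  refine N_eq_of_derivative (p := fun k => ∑ l ∈ range (k + 1), (k.choose l : R) * N g l) he0 ?_ hk
  rw [hser, PowerSeries.derivative_subst hasSubst_lamArg, derivative_ser hg,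
    PowerSeries.subst_mul hasSubst_lamArg, derivative_lamArg, mul_assoc]
  congr 1
  ext n
  rw [PowerSeries.coeff_mul, Finset.Nat.sum_antidiagonal_eq_sum_range_succ_mk]
  have hsub : ∀ i ≤ n, PowerSeries.coeff i ((D (N g)).subst (lamArg R)) =
      ∑ s ∈ range (n + 1), (-1) ^ s * N g (s + 1) * PowerSeries.coeff i (lamArg R ^ s) := by
    intro i hi
    rw [PowerSeries.coeff_subst' hasSubst_lamArg,
      finsum_eq_sum_of_support_subset (s := range (n + 1))]
    · exact Finset.sum_congr rfl fun s _ => by simp [D, mul_assoc]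
    · intro s hs
      simp only [Function.mem_support, ne_eq] at hs
      by_contra hsn
      simp only [Finset.coe_range, Set.mem_Iio, not_lt] at hsn
      exact hs (by rw [lamArg, mul_pow, PowerSeries.coeff_X_pow_mul', if_neg (by omega), smul_zero])
  rw [Finset.sum_congr rfl fun i hi => by rw [hsub i (by rw [Finset.mem_range] at hi; omega),
    Finset.sum_mul], Finset.sum_comm]
  simp only [mul_assoc]
  simp only [← Finset.mul_sum]
  rw [D, PowerSeries.coeff_mk, Finset.sum_range_succ' _ (n + 1), show N g 0 = 0 from rfl, mul_zero,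
    add_zero, Finset.mul_sum]
  refine Finset.sum_congr rfl fun s hs => ?_
  rw [Finset.mem_range] at hs
  have := coeff_X_pow_mul_altGeom_pow (R := R) n s (by omega)
  rw [PowerSeries.coeff_mul, Finset.Nat.sum_antidiagonal_eq_sum_range_succ_mk] at this
  rw [this, show (-1 : R) ^ n = (-1) ^ s * (-1) ^ (n - s) by rw [← pow_add]; congr 1; omega]
  ring

theorem lamSeries_eq_subst [LambdaOps R] (x : R) :
    lamSeries x = (gammaSeries x).subst (lamArg R) := by
  rw [gammaSeries_eq, PowerSeries.subst_comp_subst_apply hasSubst_gammaArg hasSubst_lamArg,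
    subst_lamArg_gammaArg, PowerSeries.X_subst]

theorem adamsOp_eq_sum_choose [LambdaOps R] (x : R) {k : ℕ} (hk : 1 ≤ k) :
    adamsOp k x = ∑ l ∈ range (k + 1), (k.choose l : R) * N (fun j => gamma j x) l := by
  rw [adamsOp_eq, ← N_subst_lamArg (fun j => gamma j x) (gamma_zero x) hk]
  congr 1
  funext j
  have := congrArg (PowerSeries.coeff j) (lamSeries_eq_subst x)
  rw [lamSeries, PowerSeries.coeff_mk] at this
  exact this

theorem N_scale (c : R) {e : ℕ → R} (he : e 0 = 1) {k : ℕ} (hk : 1 ≤ k) :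
    N (fun j => c ^ j * e j) k = c ^ k * N e k := by
  refine N_eq_of_derivative (p := fun k => c ^ k * N e k) (by simp [he]) ?_ hk
  rw [derivative_iff]
  intro n
  rw [mul_assoc, recursion (derivative_ser he) n, Finset.mul_sum]
  refine Finset.sum_congr rfl fun i hi => ?_
  rw [Finset.mem_range] at hi
  rw [show c ^ (n + 1) = c ^ i * c ^ (n - i + 1) by rw [← pow_add]; congr 1; omega]
  ring

end Series

section FDiff

variable {S : Type u} [CommRing S]

/-- All forward differences of order `l` lie in the `(a + l)`-th step. -/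
def IsD (F : GradedFam S) (a : ℕ) (f : ℕ → S) : Prop :=
  ∀ l r, Δ_[1]^[l] f r ∈ F.M (a + l)

theorem IsD.mul {F : GradedFam S} {a b : ℕ} {f g : ℕ → S} (hf : IsD F a f) (hg : IsD F b g) :
    IsD F (a + b) (fun m => f m * g m) := by
  intro l
  induction l generalizing a b f g with
  | zero => exact fun r => by simpa using F.mul_mem (hf 0 r) (hg 0 r)
  | succ l ih =>
    intro r
    rw [Function.iterate_succ_apply]
    have h : Δ_[1] (fun m => f m * g m) =
        (fun m => Δ_[1] f m * g (m + 1)) + fun m => f m * Δ_[1] g m := by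
      funext m
      simp only [fwdDiff, Pi.add_apply]
      ring
    rw [h, fwdDiff_iter_add, Pi.add_apply]
    have hf' : IsD F (a + 1) (Δ_[1] f) := fun l r => by
      rw [← Function.iterate_succ_apply, show a + 1 + l = a + (l + 1) by omega]; exact hf _ r
    have hg' : IsD F (b + 1) (Δ_[1] g) := fun l r => by
      rw [← Function.iterate_succ_apply, show b + 1 + l = b + (l + 1) by omega]; exact hg _ r
    have hg1 : IsD F b (fun m => g (m + 1)) := fun l r => by
      rw [fwdDiff_iter_comp_add]; exact hg l (r + 1)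
    refine add_mem ?_ ?_
    · have := ih hf' hg1 r
      rwa [show a + 1 + b + l = a + b + (l + 1) by omega] at this
    · have := ih hf hg' r
      rwa [show a + (b + 1) + l = a + b + (l + 1) by omega] at this

theorem IsD.const {F : GradedFam S} {c : S} (hc : c ∈ F.M 0) : IsD F 0 (fun _ => c) := by
  intro l r
  rcases l with _ | l
  · simpa using hc
  · rw [Function.iterate_succ_apply, fwdDiff_const]
    have : Δ_[1]^[l] (fun _ : ℕ => (0 : S)) = fun _ => 0 := by
      induction l with
      | zero => rfl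
      | succ l ih => rw [Function.iterate_succ_apply', ih, fwdDiff_const]
    rw [this]
    exact zero_mem _

theorem IsD.add {F : GradedFam S} {a : ℕ} {f g : ℕ → S} (hf : IsD F a f) (hg : IsD F a g) :
    IsD F a (fun m => f m + g m) := fun l r => by
  rw [show (fun m => f m + g m) = f + g from rfl, fwdDiff_iter_add]
  exact add_mem (hf l r) (hg l r)

theorem IsD.sum {F : GradedFam S} {ι : Type*} (s : Finset ι) (f : ι → ℕ → S)
    (h : ∀ i ∈ s, IsD F 0 (f i)) : IsD F 0 (fun m => ∑ i ∈ s, f i m) := by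
  classical
  induction s using Finset.induction with
  | empty => simpa using IsD.const (F := F) (zero_mem _)
  | insert a s ha ih =>
    simp only [Finset.sum_insert ha]
    exact (h a (Finset.mem_insert_self a s)).add (ih fun i hi => h i (Finset.mem_insert_of_mem hi))

theorem fwdDiff_iter_map {T : Type*} [AddCommGroup T] (L : S →+ T) (f : ℕ → S) :
    ∀ n, Δ_[1]^[n] (fun m => L (f m)) = fun r => L (Δ_[1]^[n] f r)
  | 0 => rfl
  | n + 1 => by
    rw [Function.iterate_succ_apply', fwdDiff_iter_map L f n, Function.iterate_succ_apply']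
    funext r
    simp [fwdDiff]

end FDiff

section GradedE

variable {S : Type u} [CommRing S] [Algebra ℚ S] {F : GradedFam S}

theorem E_mem (hsmul : ∀ (c : ℚ) {n : ℕ} {x : S}, x ∈ F.M n → algebraMap ℚ S c * x ∈ F.M n)
    {p : ℕ → S} (hp : ∀ k, p k ∈ F.M k) : ∀ n, E p n ∈ F.M n := by
  intro n
  induction n using Nat.strong_induction_on with
  | _ n ih =>
    match n with
    | 0 => rw [E_zero]; exact F.one_mem
    | n + 1 =>
      rw [E]
      refine hsmul _ (AddSubgroup.sum_mem _ fun i _ => ?_)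
      have := F.mul_mem (ih i.1 i.2) (hp (n - i.1 + 1))
      rw [show i.1 + (n - i.1 + 1) = n + 1 by omega] at this
      rcases neg_one_pow_eq_or S (n - i.1) with h | h <;> rw [h] <;> simp [this]

theorem E_sub_mem (hsmul : ∀ (c : ℚ) {n : ℕ} {x : S}, x ∈ F.M n → algebraMap ℚ S c * x ∈ F.M n)
    {p q : ℕ → S} (hp : ∀ k, p k ∈ F.M k) (hq : ∀ k, q k ∈ F.M k)
    (hpq : ∀ k, 1 ≤ k → p k - q k ∈ F.M (k + 1)) : ∀ n, E p n - E q n ∈ F.M (n + 1) := by
  intro n
  induction n using Nat.strong_induction_on with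
  | _ n ih =>
    match n with
    | 0 => simp
    | n + 1 =>
      rw [E, E, ← mul_sub, ← Finset.sum_sub_distrib]
      refine hsmul _ (AddSubgroup.sum_mem _ fun i _ => ?_)
      rw [show E p i.1 * ((-1) ^ (n - i.1) * p (n - i.1 + 1)) -
          E q i.1 * ((-1) ^ (n - i.1) * q (n - i.1 + 1)) = (-1) ^ (n - i.1) *
          ((E p i.1 - E q i.1) * p (n - i.1 + 1) + E q i.1 * (p (n - i.1 + 1) - q (n - i.1 + 1))) by
        ring]
      have h1 := F.mul_mem (ih i.1 i.2) (hp (n - i.1 + 1))
      have h2 := F.mul_mem (E_mem hsmul hq i.1) (hpq (n - i.1 + 1) (Nat.le_add_left 1 _))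
      rw [show i.1 + 1 + (n - i.1 + 1) = n + 1 + 1 by omega] at h1
      rw [show i.1 + (n - i.1 + 1 + 1) = n + 1 + 1 by omega] at h2
      rcases neg_one_pow_eq_or S (n - i.1) with h | h <;> rw [h]
      · rw [one_mul]; exact add_mem h1 h2
      · rw [neg_one_mul]; exact neg_mem (add_mem h1 h2)

end GradedE

theorem GradedFam.N_mem {S : Type u} [CommRing S] (F : GradedFam S) {e : ℕ → S} (he0 : e 0 = 1)
    (he : ∀ k, e k ∈ F.M k) : ∀ k, N e k ∈ F.M k := by
  intro k
  induction k using Nat.strong_induction_on with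
  | _ k ih =>
    match k with
    | 0 => exact zero_mem _
    | n + 1 =>
      have h := recursion (derivative_ser he0) n
      rw [Finset.sum_range_succ', he0, one_mul, Nat.sub_zero] at h
      have h' : (-1) ^ n * N e (n + 1) ∈ F.M (n + 1) := by
        rw [← sub_eq_of_eq_add' h]
        refine sub_mem ?_ (AddSubgroup.sum_mem _ fun i hi => ?_)
        · rw [show e (n + 1) * ((n : S) + 1) = (n + 1) • e (n + 1) by
            rw [nsmul_eq_mul, Nat.cast_succ, mul_comm]]
          exact nsmul_mem (he _) _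
        · rw [Finset.mem_range] at hi
          have h2 := F.mul_mem (he (i + 1)) (ih (n - (i + 1) + 1) (by omega))
          rw [show i + 1 + (n - (i + 1) + 1) = n + 1 by omega] at h2
          rcases neg_one_pow_eq_or S (n - (i + 1)) with h | h <;> rw [h] <;> simp [h2]
      rcases neg_one_pow_eq_or S n with hs | hs <;> rw [hs] at h' <;> simpa using h'

section Free

open MvPolynomial

/-- Polynomials in the `γ^(i+1) x_a`, over `ℚ`. -/
abbrev FQ : Type := MvPolynomial (ℕ × ℕ) ℚ

/-- `γ^j x_a` -/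
noncomputable def gS (a : ℕ) : ℕ → FQ := fun j => if j = 0 then 1 else X (a, j - 1)

theorem gS_zero (a : ℕ) : gS a 0 = 1 := rfl

theorem gS_succ (a i : ℕ) : gS a (i + 1) = X (a, i) := rfl

/-- `f ↦ ∑ f_s p_s` for the power sums `p` of `e`. -/
noncomputable def Lgen {S : Type u} [CommRing S] [Algebra ℚ S] (e : ℕ → S) :
    Polynomial ℚ →ₗ[ℚ] S :=
  Polynomial.lsum fun s => (LinearMap.id : ℚ →ₗ[ℚ] ℚ).smulRight (N e s)

theorem Lgen_monomial {S : Type u} [CommRing S] [Algebra ℚ S] (e : ℕ → S) (s : ℕ) (c : ℚ) :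
    Lgen e (Polynomial.monomial s c) = c • N e s := by
  simp [Lgen, Polynomial.lsum_apply]

theorem map_Lgen {S : Type u} [CommRing S] [Algebra ℚ S] {T : Type*} [CommRing T] [Algebra ℚ T]
    (φ : S →ₐ[ℚ] T) (e : ℕ → S) (f : Polynomial ℚ) : φ (Lgen e f) = Lgen (fun j => φ (e j)) f := by
  induction f using Polynomial.induction_on' with
  | add p q hp hq => simp only [map_add, hp, hq]
  | monomial s c =>
    rw [Lgen_monomial, Lgen_monomial, map_smul, ← AlgHom.coe_toRingHom φ, map_N]

/-- `(1 + X)^k - 1` -/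
noncomputable def wk (k : ℕ) : Polynomial ℚ := (1 + Polynomial.X) ^ k - 1

theorem wk_comp (j k : ℕ) : (wk k).comp (wk j) = wk (j * k) := by
  rw [wk, wk, wk, Polynomial.sub_comp, Polynomial.pow_comp, Polynomial.add_comp,
    Polynomial.one_comp, Polynomial.X_comp, add_sub_cancel, ← pow_mul]

/-- The Adams operations of the free λ-ring, with `ψ^0` the augmentation. -/
noncomputable def psi (k : ℕ) : FQ →ₐ[ℚ] FQ :=
  aeval fun p => E (fun l => Lgen (gS p.1) (wk k ^ l)) (p.2 + 1)

theorem psi_gS (k a j : ℕ) : psi k (gS a j) = E (fun l => Lgen (gS a) (wk k ^ l)) j := by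
  rcases j with _ | i
  · rw [gS_zero, map_one, E_zero]
  · rw [gS_succ, psi, aeval_X]

theorem psi_Lgen (k a : ℕ) (f : Polynomial ℚ) :
    psi k (Lgen (gS a) f) = Lgen (gS a) (f.comp (wk k)) := by
  rw [map_Lgen, funext (psi_gS k a)]
  induction f using Polynomial.induction_on' with
  | add p q hp hq => simp only [map_add, Polynomial.add_comp, hp, hq]
  | monomial s c =>
    rw [Lgen_monomial, Polynomial.monomial_comp, Polynomial.C_mul', map_smul]
    rcases s with _ | s
    · rw [pow_zero, ← Polynomial.monomial_zero_one, Lgen_monomial, one_smul]; rfl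
    · rw [N_E _ (Nat.le_add_left 1 s)]

theorem psi_psi (j k : ℕ) (u : FQ) : psi j (psi k u) = psi (j * k) u := by
  refine AlgHom.congr_fun (φ₁ := (psi j).comp (psi k)) (MvPolynomial.algHom_ext fun p => ?_) u
  rw [AlgHom.comp_apply, ← gS_succ, psi_gS, psi_gS]
  change (psi j).toRingHom _ = _
  rw [map_E]
  refine E_congr _ fun l _ _ => ?_
  change psi j _ = _
  rw [psi_Lgen, Polynomial.pow_comp, wk_comp]

theorem psi_one (u : FQ) : psi 1 u = u := by
  refine AlgHom.congr_fun (φ₁ := psi 1) (φ₂ := AlgHom.id ℚ FQ)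
    (MvPolynomial.algHom_ext fun p => ?_) u
  rw [AlgHom.id_apply, ← gS_succ, psi_gS, ← E_N (gS_zero p.1) (p.2 + 1)]
  refine E_congr _ fun l _ _ => ?_
  rw [wk, pow_one, add_sub_cancel_left, Polynomial.X_pow_eq_monomial, Lgen_monomial, one_smul]

theorem E_zero_fun {S : Type u} [CommRing S] [Algebra ℚ S] {p : ℕ → S} {n : ℕ} (hn : 1 ≤ n)
    (h : ∀ k, 1 ≤ k → p k = 0) : E p n = 0 := by
  obtain ⟨n, rfl⟩ := Nat.exists_eq_add_of_le' hn
  rw [E, Finset.sum_eq_zero, mul_zero]
  intro i _
  rw [h _ (Nat.le_add_left 1 _), mul_zero, mul_zero]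

theorem psi_zero (u : FQ) : psi 0 u = C (constantCoeff u) := by
  refine AlgHom.congr_fun (φ₁ := psi 0)
    (φ₂ := (Algebra.ofId ℚ FQ).comp (aeval fun _ => (0 : ℚ))) (MvPolynomial.algHom_ext fun p => ?_) u
    |>.trans ?_
  · rw [AlgHom.comp_apply, aeval_X, map_zero, psi, aeval_X]
    refine E_zero_fun (Nat.le_add_left 1 _) fun l hl => ?_
    rw [wk, pow_zero, sub_self, zero_pow (Nat.one_le_iff_ne_zero.mp hl), map_zero]
  · rw [AlgHom.comp_apply, aeval_zero']
    rfl

/-- The weight of `γ^(i+1) x_a`. -/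
def wt : ℕ × ℕ → ℕ := fun p => p.2 + 1

/-- The filtration by weight. -/
noncomputable def wF : GradedFam FQ where
  M n :=
    { carrier := {P | ∀ e, Finsupp.weight wt e < n → coeff e P = 0}
      add_mem' := fun hP hQ e he => by rw [coeff_add, hP e he, hQ e he, add_zero]
      zero_mem' := fun e _ => coeff_zero e
      neg_mem' := fun hP e he => by rw [coeff_neg, hP e he, neg_zero] }
  one_mem e he := absurd he (Nat.not_lt_zero _)
  mul_mem := by
    intro a b x y hx hy e he
    classical
    rw [coeff_mul]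
    refine Finset.sum_eq_zero fun p hp => ?_
    rw [Finset.HasAntidiagonal.mem_antidiagonal] at hp
    by_cases h : Finsupp.weight wt p.1 < a
    · rw [hx p.1 h, zero_mul]
    · rw [hy p.2 ?_, mul_zero]
      rw [← hp, map_add] at he
      omega

theorem mem_wF {n : ℕ} {P : FQ} :
    P ∈ wF.M n ↔ ∀ e, Finsupp.weight wt e < n → coeff e P = 0 := Iff.rfl

theorem wF_zero (P : FQ) : P ∈ wF.M 0 := fun _ h => absurd h (Nat.not_lt_zero _)

theorem wF_anti {a b : ℕ} (h : a ≤ b) : wF.M b ≤ wF.M a := fun _ hP e he => hP e (he.trans_le h)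

theorem wF_mul_mem {n : ℕ} (c : FQ) {x : FQ} (hx : x ∈ wF.M n) : c * x ∈ wF.M n := by
  simpa using wF.mul_mem (wF_zero c) hx

theorem wF_smul (c : ℚ) {n : ℕ} {x : FQ} (hx : x ∈ wF.M n) : c • x ∈ wF.M n := by
  rw [Algebra.smul_def]; exact wF_mul_mem _ hx

theorem mem_wF_one {u : FQ} : u ∈ wF.M 1 ↔ constantCoeff u = 0 := by
  refine ⟨fun h => h 0 (by simp), fun h e he => ?_⟩
  have : e = 0 := by
    by_contra hne
    obtain ⟨p, hp⟩ := Finsupp.ne_iff.mp hne
    have := Finsupp.le_weight wt (s := p) (by simp [wt]) e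
    simp only [Finsupp.coe_zero, Pi.zero_apply] at hp
    omega
  subst this
  exact h

theorem X_mem_wF (p : ℕ × ℕ) : (X p : FQ) ∈ wF.M (p.2 + 1) := by
  intro e he
  rw [X, coeff_monomial, if_neg]
  rintro rfl
  simp [Finsupp.weight_single, wt] at he

theorem gS_mem (a : ℕ) : ∀ j, gS a j ∈ wF.M j
  | 0 => wF_zero _
  | i + 1 => by rw [gS_succ]; exact X_mem_wF (a, i)

theorem qS_mem (a l : ℕ) : N (gS a) l ∈ wF.M l := wF.N_mem (gS_zero a) (gS_mem a) l

theorem Lgen_mem (a n : ℕ) {f : Polynomial ℚ} (hf : Polynomial.X ^ n ∣ f) :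
    Lgen (gS a) f ∈ wF.M n := by
  rw [Polynomial.X_pow_dvd_iff] at hf
  conv => arg 2; rw [Polynomial.as_sum_support f]
  rw [map_sum]
  refine AddSubgroup.sum_mem _ fun s hs => ?_
  rw [Lgen_monomial]
  refine wF_smul _ (wF_anti ?_ (qS_mem a s))
  by_contra h
  exact (Polynomial.mem_support_iff.mp hs) (hf s (not_le.mp h))

/-- Powers of `X` as a multiplicative family. -/
noncomputable def zF : GradedFam (Polynomial ℚ) where
  M n := (Ideal.span {(Polynomial.X : Polynomial ℚ) ^ n}).toAddSubgroup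
  one_mem := by simp
  mul_mem := by
    intro a b x y hx hy
    change _ ∈ Ideal.span _
    rw [Ideal.mem_span_singleton, pow_add]
    exact mul_dvd_mul (Ideal.mem_span_singleton.mp hx) (Ideal.mem_span_singleton.mp hy)

theorem mem_zF {n : ℕ} {f : Polynomial ℚ} : f ∈ zF.M n ↔ Polynomial.X ^ n ∣ f :=
  Ideal.mem_span_singleton

theorem fwdDiff_wk (l r : ℕ) :
    Δ_[1]^[l + 1] wk r = Polynomial.X ^ (l + 1) * (1 + Polynomial.X) ^ r := by
  induction l generalizing r with
  | zero => rw [Function.iterate_succ_apply', Function.iterate_zero_apply, fwdDiff, wk, wk]; ring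
  | succ l ih =>
    rw [Function.iterate_succ_apply', fwdDiff, ih, ih]
    ring

theorem isD_wk_pow (l : ℕ) : IsD zF 0 (fun m => wk m ^ l) := by
  have h : IsD zF 0 wk := fun n r => by
    rw [mem_zF, zero_add]
    rcases n with _ | n
    · simp
    · rw [fwdDiff_wk]; exact dvd_mul_right _ _
  induction l with
  | zero => simpa using IsD.const (F := zF) zF.one_mem
  | succ l ih => simp only [pow_succ]; simpa using ih.mul h

theorem isD_E {p : ℕ → ℕ → FQ} (hp : ∀ k, IsD wF 0 (fun m => p m k)) :
    ∀ n, IsD wF 0 (fun m => E (p m) n) := by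
  intro n
  induction n using Nat.strong_induction_on with
  | _ n ih =>
    match n with
    | 0 => simp only [E_zero]; exact IsD.const (wF_zero _)
    | n + 1 =>
      have h := IsD.sum (F := wF) (univ : Finset (Fin (n + 1)))
        (fun i m => E (p m) i.1 * ((-1) ^ (n - i.1) * p m (n - i.1 + 1)))
        fun i _ => by
          simpa using (ih i.1 i.2).mul
            ((IsD.const (F := wF) (c := (-1) ^ (n - i.1)) (wF_zero _)).mul (hp (n - i.1 + 1)))
      have := (IsD.const (F := wF) (c := algebraMap ℚ FQ (1 / ((n : ℚ) + 1))) (wF_zero _)).mul h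
      intro l r
      have := this l r
      simp only [E]
      simpa using this

/-- `m ↦ ψ^m u` has all `l`-th differences of weight at least `l`. -/
theorem isD_psi (u : FQ) : IsD wF 0 (fun m => psi m u) := by
  induction u using MvPolynomial.induction_on with
  | C c =>
    have : (fun m => psi m (C c)) = fun _ => (C c : FQ) := funext fun m => (psi m).commutes c
    rw [this]
    exact IsD.const (wF_zero _)
  | add p q hp hq => simp only [map_add]; exact hp.add hq
  | mul_X p q hp =>
    simp only [map_mul]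
    refine (IsD.mul hp (b := 0) ?_)
    simp only [psi, aeval_X]
    refine isD_E (p := fun m l => Lgen (gS q.1) (wk m ^ l)) (fun k => ?_) (q.2 + 1)
    intro l r
    rw [show (fun m => Lgen (gS q.1) (wk m ^ k)) =
      fun m => (Lgen (gS q.1)).toAddMonoidHom (wk m ^ k) from rfl, fwdDiff_iter_map]
    exact Lgen_mem q.1 _ (mem_zF.mp (isD_wk_pow k l r))

/-- Elements on which `ψ^k` is `k^n` modulo higher weight. -/
noncomputable def psiFam : GradedFam FQ where
  M n := wF.M n ⊓ ⨅ k : ℕ, (wF.M (n + 1)).comap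
    ((psi k).toAddMonoidHom - AddMonoidHom.mulLeft ((k : FQ) ^ n))
  one_mem := by
    refine ⟨wF_zero _, ?_⟩
    simp
  mul_mem := by
    rintro a b x y ⟨hx, hx'⟩ ⟨hy, hy'⟩
    refine ⟨wF.mul_mem hx hy, AddSubgroup.mem_iInf.mpr fun k => ?_⟩
    have hx' : psi k x - (k : FQ) ^ a * x ∈ wF.M (a + 1) := (AddSubgroup.mem_iInf.mp hx') k
    have hy' : psi k y - (k : FQ) ^ b * y ∈ wF.M (b + 1) := (AddSubgroup.mem_iInf.mp hy') k
    change psi k (x * y) - (k : FQ) ^ (a + b) * (x * y) ∈ wF.M (a + b + 1)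
    rw [map_mul, show psi k x * psi k y - (k : FQ) ^ (a + b) * (x * y) =
      (psi k x - (k : FQ) ^ a * x) * ((psi k y - (k : FQ) ^ b * y) + (k : FQ) ^ b * y) +
        (k : FQ) ^ a * (x * (psi k y - (k : FQ) ^ b * y)) by ring]
    refine add_mem ?_ ?_
    · rw [show a + b + 1 = a + 1 + b by omega]
      exact wF.mul_mem hx' (add_mem (wF_anti (Nat.le_succ b) hy') (wF_mul_mem _ hy))
    · rw [show a + b + 1 = a + (b + 1) by omega]
      exact wF_mul_mem _ (wF.mul_mem hx hy')

theorem X_mem_psiFam (p : ℕ × ℕ) : (X p : FQ) ∈ psiFam.M (p.2 + 1) := by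
  refine ⟨X_mem_wF p, AddSubgroup.mem_iInf.mpr fun k => ?_⟩
  change psi k (X p) - (k : FQ) ^ (p.2 + 1) * X p ∈ wF.M (p.2 + 1 + 1)
  rw [← gS_succ, psi_gS, eq_E (e := fun j => (k : FQ) ^ j * gS p.1 j) (by simp [gS_zero])
    (fun l => (k : FQ) ^ l * N (gS p.1) l) (p.2 + 1) fun l hl _ => N_scale _ (gS_zero _) hl]
  have hw : ∀ l, ∃ r, wk k ^ l = (k : Polynomial ℚ) ^ l * Polynomial.X ^ l +
      Polynomial.X ^ (l + 1) * r := by
    obtain ⟨r₁, hr₁⟩ : ∃ r, wk k = (k : Polynomial ℚ) * Polynomial.X + Polynomial.X ^ 2 * r := by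
      induction k with
      | zero => exact ⟨0, by simp [wk]⟩
      | succ k ih =>
        obtain ⟨r, hr⟩ := ih
        refine ⟨r * (1 + Polynomial.X) + (k : Polynomial ℚ), ?_⟩
        rw [wk] at hr ⊢
        rw [pow_succ, Nat.cast_succ]
        linear_combination (1 + Polynomial.X : Polynomial ℚ) * hr
    intro l
    induction l with
    | zero => exact ⟨0, by simp⟩
    | succ l ih =>
      obtain ⟨r, hr⟩ := ih
      refine ⟨(k : Polynomial ℚ) ^ l * r₁ + r * ((k : Polynomial ℚ) + Polynomial.X * r₁), ?_⟩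
      rw [pow_succ, hr, hr₁]
      ring
  have hdvd : ∀ l, Polynomial.X ^ l ∣ wk k ^ l := fun l => by
    obtain ⟨r, hr⟩ := hw l
    rw [hr]
    exact dvd_add (dvd_mul_left _ _) ((pow_dvd_pow _ (Nat.le_succ l)).trans (dvd_mul_right _ _))
  refine E_sub_mem (fun c _ _ hx => wF_mul_mem _ hx) (fun l => Lgen_mem p.1 l (hdvd l))
    (fun l => wF_mul_mem _ (qS_mem p.1 l)) (fun l hl => ?_) (p.2 + 1)
  obtain ⟨r, hr⟩ := hw l
  rw [hr, map_add, show (k : Polynomial ℚ) ^ l * Polynomial.X ^ l =
    Polynomial.monomial l ((k : ℚ) ^ l) by rw [← Polynomial.C_mul_X_pow_eq_monomial, map_pow,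
      map_natCast], Lgen_monomial, Algebra.smul_def, map_pow, map_natCast, add_sub_cancel_left]
  exact Lgen_mem p.1 (l + 1) (dvd_mul_right _ _)

theorem mem_psiFam {n : ℕ} {u : FQ} (hu : u ∈ wF.M n) : u ∈ psiFam.M n := by
  rw [MvPolynomial.as_sum u]
  refine AddSubgroup.sum_mem _ fun e he => ?_
  have hle : n ≤ Finsupp.weight wt e := by
    by_contra h
    exact (mem_support_iff.mp he) (hu e (not_le.mp h))
  have hmon : monomial e (coeff e u) ∈ psiFam.M (Finsupp.weight wt e) := by
    rw [monomial_eq, Finsupp.prod]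
    have h1 := psiFam.prod_mem e.support (fun p => e p * wt p) (fun p => (X p : FQ) ^ e p)
      fun p _ => psiFam.pow_mem (X_mem_psiFam p) (e p)
    have hC : (C (coeff e u) : FQ) ∈ psiFam.M 0 := by
      refine ⟨wF_zero _, AddSubgroup.mem_iInf.mpr fun k => ?_⟩
      change psi k (C (coeff e u)) - (k : FQ) ^ 0 * C (coeff e u) ∈ wF.M 1
      rw [pow_zero, one_mul, show psi k (C (coeff e u)) = C (coeff e u) from (psi k).commutes _, sub_self]
      exact zero_mem _
    have := psiFam.mul_mem hC h1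
    rw [zero_add] at this
    rwa [Finsupp.weight_apply, Finsupp.sum]
  set z := monomial e (coeff e u)
  obtain ⟨hz, hz'⟩ := hmon
  rcases eq_or_lt_of_le hle with heq | hlt
  · rw [heq]; exact ⟨hz, hz'⟩
  · refine ⟨wF_anti hle hz, AddSubgroup.mem_iInf.mpr fun k => ?_⟩
    have hz' : psi k z - (k : FQ) ^ Finsupp.weight wt e * z ∈
        wF.M (Finsupp.weight wt e + 1) := (AddSubgroup.mem_iInf.mp hz') k
    change psi k z - (k : FQ) ^ n * z ∈ wF.M (n + 1)
    rw [show psi k z - (k : FQ) ^ n * z = (psi k z - (k : FQ) ^ Finsupp.weight wt e * z) +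
      ((k : FQ) ^ Finsupp.weight wt e - (k : FQ) ^ n) * z by ring]
    exact add_mem (wF_anti (by omega) hz') (wF_mul_mem _ (wF_anti (by omega) hz))

theorem psi_sub_mem {n : ℕ} {u : FQ} (hu : u ∈ wF.M n) (k : ℕ) :
    psi k u - (k : FQ) ^ n * u ∈ wF.M (n + 1) :=
  (AddSubgroup.mem_iInf.mp (mem_psiFam hu).2) k

end Free

end Groth.Agent.Lambda
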