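import Groth.Agent.Lambda.Universal
import Mathlib.RingTheory.PowerSeries.Substitution
import Mathlib.RingTheory.PowerSeries.WellKnown
import Mathlib.Algebra.Polynomial.Reverse

/-!
λ-series, γ-series and line elements in pre-λ-rings.
-/

universe u

open Finset PowerSeries LambdaRing

namespace Groth.Agent.Lambda

variable {K : Type u} [CommRing K] [LambdaOps K]

theorem lamSeries_add (x y : K) : lamSeries (x + y) = lamSeries x * lamSeries y := by
  ext n
  rw [PowerSeries.coeff_mul, Finset.Nat.sum_antidiagonal_eq_sum_range_succ_mk]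
  simp [lamSeries, LambdaOps.lam_add]

theorem constantCoeff_lamSeries (x : K) : constantCoeff (lamSeries x) = 1 := by
  rw [lamSeries, constantCoeff_mk, LambdaOps.lam_zero]

theorem lamSeries_zero : lamSeries (0 : K) = 1 := by
  have h := lamSeries_add (0 : K) 0
  rw [add_zero] at h
  have hu : IsUnit (lamSeries (0 : K)) := isUnit_iff_constantCoeff.mpr (by rw [constantCoeff_lamSeries]; exact isUnit_one)
  exact (hu.mul_eq_left).mp h.symm

theorem lam_zero_arg {n : ℕ} (hn : 1 ≤ n) : LambdaOps.lam n (0 : K) = 0 := by
  have := congrArg (coeff n) (lamSeries_zero (K := K))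
  rw [lamSeries, coeff_mk, coeff_one, if_neg (by omega : n ≠ 0)] at this
  exact this

theorem lamSeries_sum {ι : Type*} (s : Finset ι) (f : ι → K) :
    lamSeries (∑ i ∈ s, f i) = ∏ i ∈ s, lamSeries (f i) := by
  classical
  induction s using Finset.induction with
  | empty => simpa using lamSeries_zero
  | insert a s ha ih => rw [Finset.sum_insert ha, Finset.prod_insert ha, lamSeries_add, ih]

theorem lamSeries_sum_line (s : Multiset K)
    (hs : ∀ u ∈ s, ∀ j : ℕ, 2 ≤ j → LambdaOps.lam j u = 0) :
    lamSeries s.sum = ser fun j => s.esymm j := by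
  induction s using Multiset.induction with
  | empty =>
    rw [Multiset.sum_zero, lamSeries_zero]
    ext n
    rcases n with _ | n <;>
      simp [ser, esymm_zero', Multiset.esymm, Multiset.powersetCard_zero_right]
  | cons a s ih =>
    rw [Multiset.sum_cons, lamSeries_add, ih fun u hu => hs u (Multiset.mem_cons_of_mem hu),
      esymm_cons_eq, ser_conv]
    congr 1
    ext n
    match n with
    | 0 => simp [lamSeries, ser, LambdaOps.lam_zero]
    | 1 => simp [lamSeries, ser, LambdaOps.lam_one]
    | n + 2 => simp [lamSeries, ser, hs a (Multiset.mem_cons_self a s) (n + 2) (by omega)]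

theorem lam_sum_line (s : Multiset K)
    (hs : ∀ u ∈ s, ∀ j : ℕ, 2 ≤ j → LambdaOps.lam j u = 0) (n : ℕ) :
    LambdaOps.lam n s.sum = s.esymm n := by
  have := congrArg (coeff n) (lamSeries_sum_line s hs)
  simpa [lamSeries, ser] using this

theorem adamsOp_sum_line (s : Multiset K)
    (hs : ∀ u ∈ s, ∀ j : ℕ, 2 ≤ j → LambdaOps.lam j u = 0) {k : ℕ} (hk : 1 ≤ k) :
    adamsOp k s.sum = (s.map (· ^ k)).sum := by
  rw [adamsOp_eq, funext (lam_sum_line s hs), N_esymm _ hk]

/-- `X / (1 - X)` -/
noncomputable def gammaArg (K : Type u) [CommRing K] : PowerSeries K := X * PowerSeries.mk 1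

theorem hasSubst_gammaArg : HasSubst (gammaArg K) :=
  HasSubst.of_constantCoeff_zero' (by simp [gammaArg])

/-- The series of the γ-operations. -/
def gammaSeries (x : K) : PowerSeries K := mk fun k => gamma k x

theorem gammaSeries_eq (x : K) : gammaSeries x = (lamSeries x).subst (gammaArg K) := by
  ext k
  rw [gammaSeries, coeff_mk, coeff_subst' hasSubst_gammaArg,
    finsum_eq_sum_of_support_subset (s := Finset.range (k + 1))]
  · rw [gamma]
    match k with
    | 0 => simp [lamSeries, LambdaOps.lam_zero]
    | k + 1 =>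
      rw [if_neg (by omega)]
      refine Finset.sum_congr rfl fun j hj => ?_
      rw [Finset.mem_range] at hj
      match j with
      | 0 => simp [gammaArg]
      | j + 1 =>
        rw [gammaArg, mul_pow, mk_one_pow_eq_mk_choose_add, coeff_X_pow_mul',
          if_neg (Nat.succ_ne_zero j), if_pos (show j + 1 ≤ k + 1 by omega)]
        simp only [lamSeries, coeff_mk, smul_eq_mul]
        rw [show j + (k + 1 - (j + 1)) = k by omega, show k + 1 - 1 = k by omega,
          show j + 1 - 1 = j by omega, mul_comm]
  · intro j hj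
    simp only [Function.mem_support, ne_eq] at hj
    by_contra hjk
    simp only [Finset.coe_range, Set.mem_Iio, not_lt] at hjk
    refine hj ?_
    rw [gammaArg, mul_pow, coeff_X_pow_mul', if_neg (by omega), smul_zero]

theorem gamma_zero (x : K) : gamma 0 x = 1 := by simp [gamma]

theorem gamma_one (x : K) : gamma 1 x = x := by
  rw [gamma, if_neg one_ne_zero, Finset.sum_range_succ, Finset.sum_range_one]
  simp [LambdaOps.lam_one]

theorem constantCoeff_gammaSeries (x : K) : constantCoeff (gammaSeries x) = 1 := by
  rw [gammaSeries, constantCoeff_mk, gamma_zero]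

theorem gammaSeries_add (x y : K) : gammaSeries (x + y) = gammaSeries x * gammaSeries y := by
  rw [gammaSeries_eq, gammaSeries_eq, gammaSeries_eq, lamSeries_add, subst_mul hasSubst_gammaArg]

theorem gammaSeries_zero : gammaSeries (0 : K) = 1 := by
  rw [gammaSeries_eq, lamSeries_zero, ← coe_substAlgHom hasSubst_gammaArg, map_one]

theorem gammaSeries_neg_mul (x : K) : gammaSeries (-x) * gammaSeries x = 1 := by
  rw [← gammaSeries_add, neg_add_cancel, gammaSeries_zero]

theorem gammaSeries_sum {ι : Type*} (s : Finset ι) (f : ι → K) :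
    gammaSeries (∑ i ∈ s, f i) = ∏ i ∈ s, gammaSeries (f i) := by
  classical
  induction s using Finset.induction with
  | empty => simpa using gammaSeries_zero
  | insert a s ha ih => rw [Finset.sum_insert ha, Finset.prod_insert ha, gammaSeries_add, ih]

section One

variable (h1 : ∀ k : ℕ, 2 ≤ k → LambdaOps.lam k (1 : K) = 0)
include h1

theorem lamSeries_line {y : K} (hy : ∀ j : ℕ, 2 ≤ j → LambdaOps.lam j y = 0) :
    lamSeries y = 1 + C y * X := by
  ext n
  match n with
  | 0 => simp [lamSeries, LambdaOps.lam_zero]
  | 1 => simp [lamSeries, LambdaOps.lam_one, coeff_one]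
  | n + 2 => simp [lamSeries, hy (n + 2) (by omega), coeff_one]

theorem lamSeries_natCast (n : ℕ) : lamSeries (n : K) = (1 + X) ^ n := by
  induction n with
  | zero => simp [lamSeries_zero]
  | succ n ih =>
    rw [Nat.cast_succ, lamSeries_add, ih, lamSeries_line h1 h1, map_one, one_mul, pow_succ]

theorem lam_add_natCast (x : K) (n k : ℕ) : LambdaOps.lam k (x + (n : K)) =
    ∑ i ∈ range (k + 1), LambdaOps.lam i x * (n.choose (k - i) : K) := by
  rw [LambdaOps.lam_add]
  refine Finset.sum_congr rfl fun i _ => ?_
  have := congrArg (coeff (k - i)) (lamSeries_natCast h1 n)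
  rw [lamSeries, coeff_mk] at this
  rw [this, show ((1 + X : PowerSeries K) ^ n) = ((1 + Polynomial.X : Polynomial K) ^ n : Polynomial K) by
    simp, Polynomial.coeff_coe, Polynomial.coeff_one_add_X_pow]

theorem gamma_eq_lam (n : ℕ) (x : K) : gamma n x = LambdaOps.lam n (x + (n : K) - 1) := by
  match n with
  | 0 => rw [gamma_zero, LambdaOps.lam_zero]
  | n + 1 =>
    rw [Nat.cast_succ, ← add_assoc, add_sub_cancel_right, lam_add_natCast h1, gamma,
      if_neg (Nat.succ_ne_zero n)]
    refine Finset.sum_congr rfl fun i hi => ?_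
    rw [Finset.mem_range] at hi
    match i with
    | 0 => simp [Nat.choose_eq_zero_of_lt]
    | j + 1 =>
      rw [if_neg (Nat.succ_ne_zero j), mul_comm, show n + 1 - 1 = n by omega,
        show j + 1 - 1 = j by omega, show n + 1 - (j + 1) = n - j by omega,
        Nat.choose_symm (by omega : j ≤ n)]

theorem alternating_sum_lam (z : K) (n : ℕ) :
    ∑ i ∈ range (n + 1), (-1 : K) ^ i * LambdaOps.lam i (z + 1) =
      (-1 : K) ^ n * LambdaOps.lam n z := by
  induction n with
  | zero => simp [LambdaOps.lam_zero]
  | succ n ih =>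
    have h : LambdaOps.lam (n + 1) (z + 1) = LambdaOps.lam n z + LambdaOps.lam (n + 1) z := by
      have := congrArg (coeff (n + 1)) (lamSeries_add z 1)
      rw [lamSeries_line h1 h1, map_one, one_mul, mul_add, mul_one, map_add,
        coeff_succ_mul_X] at this
      simp only [lamSeries, coeff_mk] at this
      rw [this, add_comm]
    rw [Finset.sum_range_succ, ih, h, pow_succ]
    ring

theorem gammaSeries_one : gammaSeries (1 : K) = PowerSeries.mk 1 := by
  rw [gammaSeries_eq, lamSeries_line h1 h1, map_one, one_mul,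
    subst_add hasSubst_gammaArg, subst_X hasSubst_gammaArg, ← coe_substAlgHom hasSubst_gammaArg,
    map_one, gammaArg]
  linear_combination (-1 : PowerSeries K) * mk_one_mul_one_sub_eq_one K

theorem gammaSeries_sub_natCast (x : K) (n : ℕ) :
    gammaSeries (x - (n : K)) = gammaSeries x * (1 - X) ^ n := by
  induction n generalizing x with
  | zero => simp
  | succ n ih =>
    have h := gammaSeries_add (x - ((n + 1 : ℕ) : K)) 1
    rw [gammaSeries_one h1, show x - ((n + 1 : ℕ) : K) + 1 = x - n by push_cast; ring, ih] at h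
    calc gammaSeries (x - ((n + 1 : ℕ) : K))
        = gammaSeries (x - ((n + 1 : ℕ) : K)) * (PowerSeries.mk 1 * (1 - X)) := by
          rw [mk_one_mul_one_sub_eq_one, mul_one]
      _ = gammaSeries x * (1 - X) ^ (n + 1) := by rw [← mul_assoc, ← h, pow_succ, mul_assoc]

theorem gammaSeries_line_sub_one {y : K} (hy : ∀ j : ℕ, 2 ≤ j → LambdaOps.lam j y = 0) :
    gammaSeries (y - 1) = 1 + C (y - 1) * X := by
  have h := gammaSeries_sub_natCast h1 y 1
  rw [Nat.cast_one] at h
  have hC : (C y : PowerSeries K).subst (gammaArg K) = C y := by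
    rw [subst_C]; rfl
  rw [h, gammaSeries_eq, lamSeries_line h1 hy, subst_add hasSubst_gammaArg,
    subst_mul hasSubst_gammaArg, subst_X hasSubst_gammaArg, hC, ← coe_substAlgHom hasSubst_gammaArg,
    map_one, gammaArg, map_sub, map_one]
  linear_combination (C y * X) * mk_one_mul_one_sub_eq_one K

theorem gammaSeries_sum_line_sub (s : Multiset K)
    (hs : ∀ u ∈ s, ∀ j : ℕ, 2 ≤ j → LambdaOps.lam j u = 0) :
    gammaSeries (s.sum - (s.card : K)) = ser fun j => (s.map (· - 1)).esymm j := by
  induction s using Multiset.induction with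
  | empty =>
    rw [Multiset.sum_zero, Multiset.card_zero, Nat.cast_zero, sub_zero, gammaSeries_zero]
    ext n
    rcases n with _ | n <;>
      simp [ser, esymm_zero', Multiset.esymm, Multiset.powersetCard_zero_right]
  | cons a s ih =>
    rw [Multiset.sum_cons, Multiset.card_cons, Nat.cast_succ,
      show a + s.sum - ((s.card : K) + 1) = (a - 1) + (s.sum - s.card) by ring, gammaSeries_add,
      ih fun u hu => hs u (Multiset.mem_cons_of_mem hu), Multiset.map_cons, esymm_cons_eq, ser_conv]
    congr 1
    rw [gammaSeries_line_sub_one h1 (hs a (Multiset.mem_cons_self a s))]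
    ext n
    match n with
    | 0 => simp [ser]
    | 1 => simp [ser, coeff_one]
    | n + 2 => simp [ser, coeff_one]

theorem gamma_sum_line_sub (s : Multiset K)
    (hs : ∀ u ∈ s, ∀ j : ℕ, 2 ≤ j → LambdaOps.lam j u = 0) (k : ℕ) :
    gamma k (s.sum - (s.card : K)) = (s.map (· - 1)).esymm k := by
  have := congrArg (coeff k) (gammaSeries_sum_line_sub h1 s hs)
  simpa [gammaSeries, ser] using this

theorem gamma_sub_rank_identity (e : K) (m : ℕ) (he : ∀ i, m < i → LambdaOps.lam i e = 0) :
    (∑ i ∈ range (m + 1), Polynomial.C (gamma i (e - (m : K))) * Polynomial.X ^ (m - i)) =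
      ∑ i ∈ range (m + 1), Polynomial.C (LambdaOps.lam i e) * (Polynomial.X - 1) ^ (m - i) := by
  let q : ℕ → Polynomial K := fun j =>
    Polynomial.C (LambdaOps.lam j e) * (Polynomial.X ^ j * (1 - Polynomial.X) ^ (m - j))
  let p : Polynomial K := ∑ j ∈ range (m + 1), q j
  have hser : gammaSeries (e - (m : K)) = (p : PowerSeries K) := by
    have hl : lamSeries e =
        ((∑ j ∈ range (m + 1), Polynomial.C (LambdaOps.lam j e) * Polynomial.X ^ j : Polynomial K) :
          PowerSeries K) := by
      ext n
      rw [lamSeries, coeff_mk, Polynomial.coeff_coe, Polynomial.finsetSum_coeff]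
      by_cases hn : n ≤ m
      · rw [Finset.sum_eq_single n] <;> simp +contextual [hn, Nat.lt_succ_of_le hn, eq_comm]
      · rw [he n (by omega), Finset.sum_eq_zero]
        intro j hj
        rw [Finset.mem_range] at hj
        simp [show n ≠ j by omega]
    rw [gammaSeries_sub_natCast h1, gammaSeries_eq, hl, subst_coe hasSubst_gammaArg, map_sum,
      Finset.sum_mul]
    simp only [p, q]
    rw [← Polynomial.coeToPowerSeries.ringHom_apply, map_sum]
    refine Finset.sum_congr rfl fun j hj => ?_
    rw [Finset.mem_range] at hj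
    simp only [Polynomial.coeToPowerSeries.ringHom_apply, Polynomial.coe_mul, Polynomial.coe_pow,
      Polynomial.coe_C, Polynomial.coe_X, Polynomial.coe_sub, Polynomial.coe_one, map_mul,
      Polynomial.aeval_C, map_pow, Polynomial.aeval_X, gammaArg, mul_pow]
    rw [show (1 - X : PowerSeries K) ^ m = (1 - X) ^ j * (1 - X) ^ (m - j) by
      rw [← pow_add]; congr 1; omega, PowerSeries.algebraMap_apply]
    simp only [Algebra.algebraMap_self, RingHom.id_apply]
    calc _ = C (LambdaOps.lam j e) * X ^ j * (PowerSeries.mk 1 * (1 - X)) ^ j * (1 - X) ^ (m - j) := by rw [mul_pow]; ring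
      _ = _ := by rw [mk_one_mul_one_sub_eq_one, one_pow]; ring
  have h1X : ∀ k : ℕ, ((1 - Polynomial.X : Polynomial K) ^ k).natDegree ≤ k ∧
      Polynomial.reflect k ((1 - Polynomial.X : Polynomial K) ^ k) = (Polynomial.X - 1) ^ k := by
    intro k
    induction k with
    | zero => simp
    | succ k ih =>
      have hd : (1 - Polynomial.X : Polynomial K).natDegree ≤ 1 :=
        (Polynomial.natDegree_sub_le _ _).trans (max_le (by simp) Polynomial.natDegree_X_le)
      rw [pow_succ, pow_succ]
      refine ⟨Polynomial.natDegree_mul_le.trans (by omega), ?_⟩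
      rw [Polynomial.reflect_mul _ _ ih.1 hd, ih.2]
      congr 1
      rw [Polynomial.reflect_sub, Polynomial.reflect_one]
      simp [Polynomial.reflect_one_X]
  have hq : ∀ j ≤ m, (q j).natDegree ≤ m ∧ Polynomial.reflect m (q j) =
      Polynomial.C (LambdaOps.lam j e) * (Polynomial.X - 1) ^ (m - j) := by
    intro j hj
    refine ⟨(Polynomial.natDegree_C_mul_le _ _).trans (Polynomial.natDegree_mul_le.trans
      (le_trans (add_le_add (Polynomial.natDegree_X_pow_le j) (h1X (m - j)).1) (by omega))), ?_⟩
    rw [Polynomial.reflect_C_mul]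
    congr 1
    have hm : m = j + (m - j) := by omega
    conv_lhs => rw [hm]
    rw [show j + (m - j) - j = m - j by omega, Polynomial.reflect_mul _ _
      (Polynomial.natDegree_X_pow_le j) (h1X (m - j)).1, (h1X (m - j)).2,
      Polynomial.reflect_monomial, Polynomial.revAt_le le_rfl, Nat.sub_self, pow_zero, one_mul]
  have hp : p.natDegree ≤ m := Polynomial.natDegree_sum_le_of_forall_le _ _ fun j hj =>
    (hq j (by rw [Finset.mem_range] at hj; omega)).1
  have hrefl : ∀ f : Polynomial K, f.natDegree ≤ m → Polynomial.reflect m f =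
      ∑ i ∈ range (m + 1), Polynomial.C (f.coeff i) * Polynomial.X ^ (m - i) := by
    intro f hf
    ext n
    rw [Polynomial.coeff_reflect, Polynomial.finsetSum_coeff]
    simp only [Polynomial.coeff_C_mul_X_pow]
    by_cases hn : n ≤ m
    · rw [Polynomial.revAt_le hn, Finset.sum_eq_single (m - n), if_pos (by omega)]
      · intro b hb hb'
        rw [Finset.mem_range] at hb
        rw [if_neg (by omega)]
      · intro h
        simp only [Finset.mem_range, not_lt] at h
        omega
    · rw [Finset.sum_eq_zero fun b hb => if_neg (by omega), Polynomial.revAt_eq_self_of_lt (by omega),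
        Polynomial.coeff_eq_zero_of_natDegree_lt (by omega)]
  have hsum : Polynomial.reflect m p = ∑ j ∈ range (m + 1), Polynomial.reflect m (q j) := by
    ext n
    simp only [p, Polynomial.coeff_reflect, Polynomial.finsetSum_coeff]
  rw [← Finset.sum_congr rfl fun j (hj : j ∈ range (m + 1)) =>
    (hq j (Nat.lt_succ_iff.mp (Finset.mem_range.mp hj))).2, ← hsum, hrefl p hp]
  refine Finset.sum_congr rfl fun i _ => ?_
  have := congrArg (coeff i) hser
  rw [gammaSeries, coeff_mk, Polynomial.coeff_coe] at this
  rw [this]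

end One

end Groth.Agent.Lambda
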