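import Groth.Agent.Lambda.FreeLam
import Groth.Agent.Lambda.Existence
import Groth.Agent.Lambda.Binomial
import Groth.Agent.Lambda.Split

/-!
Universal γ-identities: γ-operations of polynomials in `γ^j x_a` in any λ-ring, weights, scalars.
-/

universe u v w

open Finset LambdaRing MvPolynomial

namespace Groth.Agent.Lambda

attribute [local instance] freeLam

/-- Polynomials in the `γ^(i+1) x_a`, over `ℤ`. -/
abbrev FZ : Type := MvPolynomial (ℕ × ℕ) ℤ

/-- Evaluation at a family of elements. -/
noncomputable def theta {A : Type u} [CommRing A] [LambdaOps A] (x : ℕ → A) : FZ →+* A :=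
  (aeval fun p : ℕ × ℕ => gamma (p.2 + 1) (x p.1)).toRingHom

/-- The inclusion in the rational free ring. -/
noncomputable def iotaQ : FZ →+* FQ := MvPolynomial.map (Int.castRingHom ℚ)

theorem iotaQ_injective : Function.Injective iotaQ := map_injective _ Int.cast_injective

theorem theta_X {A : Type u} [CommRing A] [LambdaOps A] (x : ℕ → A) (p : ℕ × ℕ) :
    theta x (X p) = gamma (p.2 + 1) (x p.1) := by simp [theta]

theorem gamma_X_zero (a i : ℕ) : gamma i (X (a, 0) : FQ) = gS a i := by
  have h0 : constantCoeff (X (a, 0) : FQ) = 0 := constantCoeff_X _ _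
  have hl : ∀ l, 1 ≤ l → delta (X (a, 0)) l = N (gS a) l := by
    intro l hl
    have hp : (fun m => psi m (X (a, 0) : FQ)) = fun m => (Lgen (gS a)).toAddMonoidHom (wk m) := by
      funext m
      rw [← gS_succ, psi_gS, zero_add, ← N_one (E_zero _), N_E _ le_rfl, pow_one]
      rfl
    obtain ⟨l, rfl⟩ := Nat.exists_eq_add_of_le' hl
    rw [delta, hp, fwdDiff_iter_map]
    change Lgen (gS a) _ = _
    rw [fwdDiff_wk, pow_zero, mul_one, Polynomial.X_pow_eq_monomial, Lgen_monomial, one_smul]
  rw [gamma_eq_E h0, E_congr i fun l h _ => hl l h, E_N (gS_zero a)]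

/-- `λ^j` of the generators in γ-coordinates. -/
noncomputable def eZ (a j : ℕ) : FZ :=
  PowerSeries.coeff j ((ser fun i => if i = 0 then (1 : FZ) else X (a, i - 1)).subst (lamArg FZ))

theorem map_eZ {T : Type u} [CommRing T] (f : FZ →+* T) (a j : ℕ) :
    f (eZ a j) = PowerSeries.coeff j
      ((ser fun i => f (if i = 0 then (1 : FZ) else X (a, i - 1))).subst (lamArg T)) := by
  rw [eZ, ← PowerSeries.coeff_map]
  erw [PowerSeries.map_subst hasSubst_lamArg]
  have h1 : PowerSeries.map f (ser fun i => if i = 0 then (1 : FZ) else X (a, i - 1)) =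
      ser fun i => f (if i = 0 then (1 : FZ) else X (a, i - 1)) := by ext i; simp [ser]
  have h2 : MvPowerSeries.map f (lamArg FZ) = lamArg T := by
    change PowerSeries.map f (lamArg FZ) = _
    ext i
    rcases i with _ | i
    · simp [lamArg]
    · simp [lamArg, altGeom]
  rw [h1, h2]

theorem theta_eZ {A : Type u} [CommRing A] [LambdaOps A] (x : ℕ → A) (a j : ℕ) :
    theta x (eZ a j) = LambdaOps.lam j (x a) := by
  rw [map_eZ]
  have : (ser fun i => theta x (if i = 0 then (1 : FZ) else X (a, i - 1))) = gammaSeries (x a) := by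
    ext i
    rcases i with _ | i
    · simp [ser, gammaSeries, gamma_zero]
    · simp [ser, gammaSeries, theta_X]
  rw [this, ← lamSeries_eq_subst, lamSeries, PowerSeries.coeff_mk]

theorem iotaQ_eZ (a j : ℕ) : iotaQ (eZ a j) = LambdaOps.lam j (X (a, 0) : FQ) := by
  rw [map_eZ]
  have : (ser fun i => iotaQ (if i = 0 then (1 : FZ) else X (a, i - 1))) =
      gammaSeries (X (a, 0) : FQ) := by
    ext i
    rcases i with _ | i
    · simp [ser, gammaSeries, gamma_zero]
    · simp [ser, gammaSeries, iotaQ, gamma_X_zero, gS_succ]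
  rw [this, ← lamSeries_eq_subst, lamSeries, PowerSeries.coeff_mk]

/-- `λ^n u` is given by an integral polynomial, uniformly in all λ-rings. -/
def LamUniv (u : FZ) : Prop :=
  ∀ n, ∃ v : FZ, iotaQ v = LambdaOps.lam n (iotaQ u) ∧
    ∀ (A : Type w) (_ : CommRing A) (_ : LambdaOps A), IsSpecial A → ∀ x : ℕ → A,
      LambdaOps.lam n (theta x u) = theta x v

theorem lamUniv_one : LamUniv.{w} 1 := by
  intro n
  refine ⟨if n = 0 then 1 else if n = 1 then 1 else 0, ?_, fun A _ _ hA x => ?_⟩
  · rw [map_one]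
    split_ifs with h0 h1
    · rw [map_one, h0, LambdaOps.lam_zero]
    · rw [map_one, h1, LambdaOps.lam_one]
    · rw [map_zero, isSpecial_free.lam_one_eq_zero n (by omega)]
  · rw [map_one]
    split_ifs with h0 h1
    · rw [map_one, h0, LambdaOps.lam_zero]
    · rw [map_one, h1, LambdaOps.lam_one]
    · rw [map_zero, hA.lam_one_eq_zero n (by omega)]

theorem lamUniv_zero : LamUniv.{w} 0 := by
  intro n
  refine ⟨if n = 0 then 1 else 0, ?_, fun A _ _ _ x => ?_⟩
  · rw [map_zero]
    split_ifs with h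
    · rw [map_one, h, LambdaOps.lam_zero]
    · rw [map_zero, lam_zero_arg (by omega)]
  · rw [map_zero]
    split_ifs with h
    · rw [map_one, h, LambdaOps.lam_zero]
    · rw [map_zero, lam_zero_arg (by omega)]

theorem LamUniv.add {u v : FZ} (hu : LamUniv.{w} u) (hv : LamUniv.{w} v) : LamUniv.{w} (u + v) := by
  intro n
  choose f hf hf' using hu
  choose g hg hg' using hv
  refine ⟨∑ i ∈ range (n + 1), f i * g (n - i), ?_, fun A _ _ hA x => ?_⟩
  · rw [map_add, LambdaOps.lam_add, map_sum]
    simp only [map_mul, hf, hg]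
  · rw [map_add, LambdaOps.lam_add, map_sum]
    simp only [map_mul, hf' _ A _ _ hA x, hg' _ A _ _ hA x]

theorem LamUniv.neg {u : FZ} (hu : LamUniv.{w} u) : LamUniv.{w} (-u) := by
  intro n
  choose f hf hf' using hu
  have hf0 : f 0 = 1 := iotaQ_injective (by rw [hf 0, LambdaOps.lam_zero, map_one])
  have key : ∀ (T : Type w) (_ : CommRing T) (_ : LambdaOps T) (φ : FZ →+* T),
      (∀ i, LambdaOps.lam i (φ u) = φ (f i)) →
      LambdaOps.lam n (φ (-u)) = φ (PowerSeries.coeff n ((ser f).invOfUnit 1)) := by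
    intro T _ _ φ h
    have h1 := congrArg (PowerSeries.map φ) (PowerSeries.mul_invOfUnit (ser f) 1
      (by simp [constantCoeff_ser, hf0]))
    have hs : PowerSeries.map φ (ser f) = lamSeries (φ u) := by
      refine PowerSeries.ext fun i => ?_
      simp [ser, lamSeries, h i]
    rw [map_mul, map_one, hs] at h1
    have h2 : lamSeries (φ (-u)) * lamSeries (φ u) = 1 := by
      rw [map_neg, ← lamSeries_add, neg_add_cancel, lamSeries_zero]
    have := congrArg (PowerSeries.coeff n) (left_inv_eq_right_inv h2 h1)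
    simpa [lamSeries] using this
  refine ⟨PowerSeries.coeff n ((ser f).invOfUnit 1), ?_, fun A i1 i2 hA x =>
    key A i1 i2 (theta x) fun i => hf' i A _ _ hA x⟩
  have h1 := congrArg (PowerSeries.map iotaQ) (PowerSeries.mul_invOfUnit (ser f) 1
    (by simp [constantCoeff_ser, hf0]))
  have hs : PowerSeries.map iotaQ (ser f) = lamSeries (iotaQ u) := by
    refine PowerSeries.ext fun i => ?_
    simp [ser, lamSeries, hf i]
  rw [map_mul, map_one, hs] at h1
  have h2 : lamSeries (iotaQ (-u)) * lamSeries (iotaQ u) = 1 := by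
    rw [map_neg, ← lamSeries_add, neg_add_cancel, lamSeries_zero]
  have := congrArg (PowerSeries.coeff n) (left_inv_eq_right_inv h2 h1)
  simpa [lamSeries] using this.symm

theorem LamUniv.mul {u v : FZ} (hu : LamUniv.{w} u) (hv : LamUniv.{w} v) : LamUniv.{w} (u * v) := by
  intro n
  choose f hf hf' using hu
  choose g hg hg' using hv
  obtain ⟨P, hP⟩ := exists_isMulPoly n
  refine ⟨aeval (Sum.elim (fun k : Fin n => f (k.1 + 1)) fun k : Fin n => g (k.1 + 1)) P, ?_,
    fun A _ _ hA x => ?_⟩
  · rw [map_mul, isSpecial_free.lam_mul n P hP, map_aeval_int]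
    congr! 2 with z
    funext z
    rcases z with k | k <;> simp [hf, hg]
  · rw [map_mul, hA.lam_mul n P hP, map_aeval_int]
    congr! 2 with z
    funext z
    rcases z with k | k <;> simp [hf' _ A _ _ hA x, hg' _ A _ _ hA x]

theorem lamUniv_eZ (a j : ℕ) : LamUniv.{w} (eZ a j) := by
  intro n
  obtain ⟨Q, hQ⟩ := exists_isCompPoly j n
  refine ⟨aeval (fun k : Fin (j * n) => eZ a (k.1 + 1)) Q, ?_, fun A _ _ hA x => ?_⟩
  · rw [iotaQ_eZ, isSpecial_free.lam_lam j n Q hQ, map_aeval_int]
    simp only [iotaQ_eZ]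
    congr!
  · rw [theta_eZ, hA.lam_lam j n Q hQ, map_aeval_int]
    simp only [theta_eZ]

theorem lamUniv_natCast : ∀ m : ℕ, LamUniv.{w} (m : FZ)
  | 0 => by simpa using lamUniv_zero
  | m + 1 => by rw [Nat.cast_succ]; exact (lamUniv_natCast m).add lamUniv_one

theorem lamUniv_X (p : ℕ × ℕ) : LamUniv.{w} (X p) := by
  have h : (X p : FZ) = ∑ j ∈ range (p.2 + 1 + 1),
      ((p.2 + 1 - 1).choose (j - 1) : FZ) * (if j = 0 then 0 else eZ p.1 j) := by
    apply iotaQ_injective
    have := gamma_X_zero p.1 (p.2 + 1)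
    rw [gamma, if_neg (Nat.succ_ne_zero _)] at this
    rw [iotaQ, MvPolynomial.map_X, ← iotaQ, show (X p : FQ) = gS p.1 (p.2 + 1) from rfl, ← this,
      map_sum]
    refine Finset.sum_congr rfl fun j _ => ?_
    rw [map_mul, map_natCast]
    split_ifs
    · rw [map_zero]
    · rw [iotaQ_eZ]
  rw [h]
  generalize range (p.2 + 1 + 1) = s
  induction s using Finset.induction with
  | empty => exact lamUniv_zero
  | insert j s hj ih =>
    rw [Finset.sum_insert hj]
    refine LamUniv.add ((lamUniv_natCast _).mul ?_) ih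
    split_ifs
    exacts [lamUniv_zero, lamUniv_eZ _ _]

theorem lamUniv_all (u : FZ) : LamUniv.{w} u := by
  induction u using MvPolynomial.induction_on with
  | C c =>
    rw [eq_intCast]
    obtain ⟨m, rfl | rfl⟩ := Int.eq_nat_or_neg c
    · simpa using lamUniv_natCast m
    · simpa using (lamUniv_natCast m).neg
  | add p q hp hq => exact hp.add hq
  | mul_X p i hp => exact hp.mul (lamUniv_X i)

/-- `γ^n u` as an integral polynomial. -/
theorem exists_gamma_poly (u : FZ) (n : ℕ) :
    ∃ v : FZ, iotaQ v = gamma n (iotaQ u) ∧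
      ∀ (A : Type w) (_ : CommRing A) (_ : LambdaOps A), IsSpecial A → ∀ x : ℕ → A,
        gamma n (theta x u) = theta x v := by
  choose f hf hf' using lamUniv_all.{w} u
  refine ⟨if n = 0 then 1 else
    ∑ j ∈ range (n + 1), ((n - 1).choose (j - 1) : FZ) * (if j = 0 then 0 else f j), ?_,
    fun A _ _ hA x => ?_⟩
  · rw [gamma]
    split_ifs with h
    · exact map_one _
    · rw [map_sum]
      refine Finset.sum_congr rfl fun j _ => ?_
      rw [map_mul, map_natCast]
      split_ifs
      · rw [map_zero]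
      · rw [hf]
  · rw [gamma]
    split_ifs with h
    · exact (map_one _).symm
    · rw [map_sum]
      refine Finset.sum_congr rfl fun j _ => ?_
      rw [map_mul, map_natCast]
      split_ifs
      · rw [map_zero]
      · rw [hf' j A _ _ hA x]

theorem coeff_eq_zero_of_wF {v : FZ} {n : ℕ} (h : iotaQ v ∈ wF.M n) (e : ℕ × ℕ →₀ ℕ)
    (he : Finsupp.weight wt e < n) : coeff e v = 0 := by
  have := h e he
  rw [iotaQ, coeff_map, eq_intCast] at this
  exact Int.cast_eq_zero.mp this

theorem theta_mem {A : Type u} [CommRing A] [LambdaOps A] (F : GradedFam A)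
    (hanti : ∀ {a b : ℕ}, a ≤ b → F.M b ≤ F.M a) {x : ℕ → A}
    (hx : ∀ a i, gamma (i + 1) (x a) ∈ F.M (i + 1)) {v : FZ} {n : ℕ} (hv : iotaQ v ∈ wF.M n) :
    theta x v ∈ F.M n :=
  F.aeval_mem (w := wt) (fun p => hx p.1 p.2) hanti v n (coeff_eq_zero_of_wF hv)

theorem iotaQ_monomial_list (l : List (ℕ × ℕ)) :
    iotaQ (l.map fun p => (X p : FZ)).prod ∈ wF.M (l.map wt).sum := by
  rw [map_list_prod, List.map_map]
  have := wF.list_prod_mem (l.map fun p => (wt p, (X p : FQ))) fun q hq => by
    obtain ⟨p, -, rfl⟩ := List.mem_map.mp hq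
    exact X_mem_wF p
  simp only [List.map_map, Function.comp_def] at this
  simpa [Function.comp_def, iotaQ] using this

end Groth.Agent.Lambda
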