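import Groth.Agent.Lambda.Gamma
import Groth.Agent.Lambda.Existence
import Groth.Agent.Lambda.EsymmInv
import Mathlib.Algebra.MvPolynomial.Division

/-!
`λ_{-1}(N)` divides `λ^q(λ_{-1}(N))` for `q ≥ 1`, for an element `N` of finite rank.
-/

universe u v

open Finset MvPolynomial LambdaRing

namespace Groth.Agent.Lambda

section Series

variable {S : Type v} [CommRing S] [Algebra ℚ S]

theorem ser_E_zero : ser (E fun _ => (0 : S)) = 1 := by
  ext n
  rw [ser, PowerSeries.coeff_mk, PowerSeries.coeff_one,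
    ← eq_E (e := fun j => (0 : Multiset S).esymm j) (esymm_zero' _) (fun _ => (0 : S)) n
      fun k hk _ => by rw [N_esymm _ hk]; simp]
  rcases n with _ | n
  · simp [esymm_zero']
  · rw [esymm_eq_zero _ (by simp), if_neg (Nat.succ_ne_zero n)]

theorem ser_E_add (p q : ℕ → S) : ser (E fun k => p k + q k) = ser (E p) * ser (E q) := by
  rw [← ser_conv]
  ext n
  simp only [ser, PowerSeries.coeff_mk, E_add]

theorem ser_E_sum {ι : Type*} (s : Finset ι) (p : ι → ℕ → S) :
    ∏ i ∈ s, ser (E (p i)) = ser (E fun k => ∑ i ∈ s, p i k) := by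
  classical
  induction s using Finset.induction with
  | empty => simp only [Finset.prod_empty, Finset.sum_empty, ser_E_zero]
  | insert a s ha ih => simp only [Finset.prod_insert ha, ih, Finset.sum_insert ha, ser_E_add]

theorem ser_E_congr {p q : ℕ → S} (h : ∀ k, 1 ≤ k → p k = q k) : ser (E p) = ser (E q) := by
  ext n
  simp only [ser, PowerSeries.coeff_mk]
  exact E_congr n fun k hk _ => h k hk

theorem dvd_E {p : ℕ → S} {w : S} (h : ∀ k, 1 ≤ k → w ∣ p k) {n : ℕ} (hn : 1 ≤ n) : w ∣ E p n := by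
  obtain ⟨n, rfl⟩ := Nat.exists_eq_add_of_le' hn
  rw [E]
  refine dvd_mul_of_dvd_right (Finset.dvd_sum fun i _ => dvd_mul_of_dvd_right ?_ _) _
  exact dvd_mul_of_dvd_right (h _ (Nat.le_add_left 1 _)) _

end Series

section Descend

variable (d : ℕ)

theorem monomial_dvd_of_map {σ : Type*} (s : σ →₀ ℕ) (F : MvPolynomial σ ℤ)
    (h : monomial s (1 : ℚ) ∣ map (Int.castRingHom ℚ) F) : monomial s (1 : ℤ) ∣ F := by
  rw [monomial_one_dvd_iff_modMonomial_eq_zero] at h ⊢
  ext e
  have he := congrArg (coeff e) h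
  rw [coeff_zero] at he ⊢
  by_cases hse : s ≤ e
  · rw [coeff_modMonomial_of_le _ hse]
  · rw [coeff_modMonomial_of_not_le _ hse] at he ⊢
    rw [coeff_map, eq_intCast] at he
    exact Int.cast_eq_zero.mp he

theorem prod_one_sub_dvd_of_map (F : MvPolynomial (Fin d) ℤ)
    (h : (∏ i, (1 - X i : MvPolynomial (Fin d) ℚ)) ∣ map (Int.castRingHom ℚ) F) :
    (∏ i, (1 - X i : MvPolynomial (Fin d) ℤ)) ∣ F := by
  let vZ : MvPolynomial (Fin d) ℤ →ₐ[ℤ] MvPolynomial (Fin d) ℤ := aeval fun i => 1 - X i
  let vQ : MvPolynomial (Fin d) ℚ →ₐ[ℚ] MvPolynomial (Fin d) ℚ := aeval fun i => 1 - X i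
  have hmono : ∀ (R : Type) [CommRing R],
      monomial (∑ i : Fin d, Finsupp.single i 1) (1 : R) = ∏ i, (X i : MvPolynomial (Fin d) R) := by
    intro R _
    rw [monomial_sum_one]
    rfl
  have hvv : vZ.comp vZ = AlgHom.id ℤ _ := MvPolynomial.algHom_ext fun i => by simp [vZ]
  have h' : monomial (∑ i : Fin d, Finsupp.single i 1) (1 : ℚ) ∣ map (Int.castRingHom ℚ) (vZ F) := by
    rw [hmono, map_aeval]
    simp only [map_sub, map_one, map_X]
    have := map_dvd vQ h
    rw [map_prod] at this
    simpa [vQ] using this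
  have := map_dvd vZ (monomial_dvd_of_map _ _ h')
  rw [hmono, map_prod, show vZ (vZ F) = F from AlgHom.congr_fun hvv F] at this
  simpa [vZ] using this

end Descend

section Main

variable {K : Type u} [CommRing K] [LambdaOps K]

theorem lamAlt_dvd_lam (hK : IsSpecial K)
    (hQ : ∀ i j : ℕ, ∃ Q : MvPolynomial (Fin (i * j)) ℤ, IsCompPoly i j Q)
    (d : ℕ) (N₀ : K) (hN : ∀ i : ℕ, d < i → LambdaOps.lam i N₀ = 0) {q : ℕ} (hq : 1 ≤ q) :
    (∑ i ∈ range (d + 1), (-1 : K) ^ i * LambdaOps.lam i N₀) ∣
      LambdaOps.lam q (∑ i ∈ range (d + 1), (-1 : K) ^ i * LambdaOps.lam i N₀) := by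
  choose Q hQ using hQ
  let a : ℕ → MvPolynomial (Fin d) ℤ := ext fun i => X i
  let c : ℕ → ℕ → MvPolynomial (Fin d) ℤ := fun i j =>
    aeval (fun l : Fin (i * j) => a (l.1 + 1)) (Q i j)
  let T : ℕ → PowerSeries (MvPolynomial (Fin d) ℤ) := fun i =>
    if Even i then ser (c i) else (ser (c i)).invOfUnit 1
  let w : MvPolynomial (Fin d) ℤ := ∑ i ∈ range (d + 1), (-1) ^ i * a i
  let s : Multiset (MvPolynomial (Fin d) ℚ) := (univ : Finset (Fin d)).val.map X
  let ι : MvPolynomial (Fin d) ℤ →+* MvPolynomial (Fin d) ℚ :=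
    (map (Int.castRingHom ℚ)).comp
      (aeval (R := ℤ) fun i : Fin d => esymm (Fin d) ℤ (i.1 + 1)).toRingHom
  have hs : s.card = d := by simp [s]
  have hι : Function.Injective ι :=
    (MvPolynomial.map_injective _ Int.cast_injective).comp (aeval_esymm_injective ℤ d)
  have hιa : ∀ l, ι (a l) = s.esymm l := by
    intro l
    rcases Nat.eq_zero_or_pos l with rfl | hl
    · simp [a, ext_zero, esymm_zero']
    rcases le_or_gt l d with hld | hld
    · simp only [a, ext_eq _ hl hld, ι, RingHom.comp_apply, AlgHom.toRingHom_eq_coe, RingHom.coe_coe,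
        aeval_X, map_esymm]
      rw [Nat.sub_add_cancel hl, esymm_eq_multiset_esymm]
    · rw [esymm_eq_zero s (by omega)]
      simp [a, ext, hl.ne', show ¬ l - 1 < d by omega]
  have hιw : ι w = ∏ i, (1 - X i) := by
    simp only [w, map_sum, map_mul, map_pow, map_neg, map_one, hιa]
    have := sum_neg_one_pow_esymm s
    rw [hs] at this
    rw [this, Multiset.map_map]
    rfl
  have hιc : ∀ i, (PowerSeries.map ι) (ser (c i)) =
      ser (E fun k => (s.map (· ^ k)).esymm i) := by
    intro i
    refine PowerSeries.ext fun j => ?_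
    simp only [ser, PowerSeries.coeff_map, PowerSeries.coeff_mk]
    rw [map_aeval_int]
    refine Eq.trans ?_ ((U_comp (hQ i j) (fun l => ι (a l)) (by simp [a, ext_zero])).trans ?_)
    · congr!
    refine E_congr j fun k hk _ => ?_
    refine (eq_E (esymm_zero' _) _ i fun m hm _ => ?_).symm
    rw [funext hιa, N_esymm _ hm, N_esymm _ (Nat.mul_pos hm hk), Multiset.map_map]
    refine congrArg Multiset.sum (Multiset.map_congr rfl fun x _ => ?_)
    rw [Function.comp_apply, ← pow_mul, mul_comm]
  have hιT : ∀ i, PowerSeries.map ι (T i) =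
      ser (E fun k => (-1) ^ i * (s.map (· ^ k)).esymm i) := by
    intro i
    simp only [T]
    by_cases hi : Even i
    · rw [if_pos hi, hιc]
      exact ser_E_congr fun k _ => by rw [hi.neg_one_pow, one_mul]
    · rw [if_neg hi]
      have hc0 : c i 0 = 1 := hι (by
        have := congrArg (PowerSeries.coeff 0) (hιc i)
        rw [PowerSeries.coeff_map] at this
        simpa [ser] using this)
      have h1 := congrArg (PowerSeries.map ι) (PowerSeries.mul_invOfUnit (ser (c i)) 1
        (by simp [constantCoeff_ser, hc0]))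
      rw [map_mul, map_one, hιc] at h1
      have h2 : ser (E fun k => (-1) ^ i * (s.map (· ^ k)).esymm i) *
          ser (E fun k => (s.map (· ^ k)).esymm i) = 1 := by
        rw [← ser_E_add, ← ser_E_zero]
        refine ser_E_congr fun k _ => ?_
        rw [(Nat.not_even_iff_odd.mp hi).neg_one_pow]
        ring
      exact (left_inv_eq_right_inv h2 h1).symm
  have hdvd : w ∣ PowerSeries.coeff q (∏ i ∈ range (d + 1), T i) := by
    set F := PowerSeries.coeff q (∏ i ∈ range (d + 1), T i)
    have hιF : (∏ i, (1 - X i : MvPolynomial (Fin d) ℚ)) ∣ ι F := by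
      rw [← PowerSeries.coeff_map, map_prod]
      simp only [hιT, ser_E_sum]
      rw [ser, PowerSeries.coeff_mk]
      refine dvd_E (fun k hk => ?_) hq
      have h := sum_neg_one_pow_esymm (s.map (· ^ k))
      rw [Multiset.card_map, hs] at h
      rw [h, Multiset.map_map, Multiset.map_map]
      refine Multiset.prod_dvd_prod_of_dvd _ _ fun i _ => ?_
      simp only [Function.comp_apply]
      exact ⟨∑ l ∈ range k, X i ^ l, by rw [mul_comm, geom_sum_mul_neg]⟩
    let σe := (aeval (R := ℤ) fun i : Fin d => esymm (Fin d) ℤ (i.1 + 1))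
    obtain ⟨G, hG⟩ := prod_one_sub_dvd_of_map d (σe F) hιF
    have hw : σe w = ∏ i, (1 - X i) := MvPolynomial.map_injective (Int.castRingHom ℚ) Int.cast_injective (by
      change ι w = _
      rw [hιw, map_prod]
      simp)
    have hne : σe w ≠ 0 := by
      rw [hw]
      intro h0
      simpa using congrArg (constantCoeff (R := ℤ) (σ := Fin d)) h0
    rw [← hw] at hG
    have hsymσ : ∀ p, (σe p).IsSymmetric := fun p => by
      have := (esymmAlgHom (Fin d) ℤ d p).2
      rwa [esymmAlgHom_apply] at this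
    have hsym : G.IsSymmetric := fun e => mul_left_cancel₀ hne (by
      conv_lhs => rw [← hsymσ w e]
      rw [← map_mul, ← hG, hsymσ F e])
    obtain ⟨g, hg⟩ := esymmAlgHom_surjective ℤ (σ := Fin d) (n := d) (by simp) ⟨G, hsym⟩
    refine ⟨g, aeval_esymm_injective ℤ d ?_⟩
    change σe F = σe (w * g)
    rw [map_mul, hG, ← esymmAlgHom_apply g, hg]
  let θ : MvPolynomial (Fin d) ℤ →+* K :=
    (aeval fun i : Fin d => LambdaOps.lam (i.1 + 1) N₀).toRingHom
  have hθa : ∀ l, θ (a l) = LambdaOps.lam l N₀ := by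
    intro l
    rcases Nat.eq_zero_or_pos l with rfl | hl
    · simp [a, ext_zero, LambdaOps.lam_zero]
    rcases le_or_gt l d with hld | hld
    · simp [θ, a, ext_eq _ hl hld, Nat.sub_add_cancel hl]
    · simp [θ, a, ext, hl.ne', show ¬ l - 1 < d by omega, hN l hld]
  have hθc : ∀ i, PowerSeries.map θ (ser (c i)) = lamSeries (LambdaOps.lam i N₀) := by
    intro i
    refine PowerSeries.ext fun j => ?_
    simp only [ser, lamSeries, PowerSeries.coeff_map, PowerSeries.coeff_mk]
    rw [map_aeval_int, hK.lam_lam i j (Q i j) (hQ i j)]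
    simp only [hθa]
  have hθT : ∀ i, PowerSeries.map θ (T i) = lamSeries ((-1) ^ i * LambdaOps.lam i N₀) := by
    intro i
    simp only [T]
    by_cases hi : Even i
    · rw [if_pos hi, hθc, hi.neg_one_pow, one_mul]
    · rw [if_neg hi, (Nat.not_even_iff_odd.mp hi).neg_one_pow, neg_one_mul]
      have hc0 : c i 0 = 1 := hι (by
        have := congrArg (PowerSeries.coeff 0) (hιc i)
        rw [PowerSeries.coeff_map] at this
        simpa [ser] using this)
      have h1 := congrArg (PowerSeries.map θ) (PowerSeries.mul_invOfUnit (ser (c i)) 1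
        (by simp [constantCoeff_ser, hc0]))
      rw [map_mul, map_one, hθc] at h1
      have h2 : lamSeries (-LambdaOps.lam i N₀) * lamSeries (LambdaOps.lam i N₀) = 1 := by
        rw [← lamSeries_add, neg_add_cancel, lamSeries_zero]
      exact (left_inv_eq_right_inv h2 h1).symm
  have hθw : θ w = ∑ i ∈ range (d + 1), (-1 : K) ^ i * LambdaOps.lam i N₀ := by
    simp [w, hθa]
  have := map_dvd θ hdvd
  rw [hθw, ← PowerSeries.coeff_map, map_prod] at this
  simp only [hθT, ← lamSeries_sum] at this
  simpa [lamSeries] using this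

end Main

end Groth.Agent.Lambda
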