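import Groth.Prelude.Def_LambdaSp
import Mathlib.RingTheory.MvPolynomial.Symmetric.FundamentalTheorem
import Mathlib.Algebra.MvPolynomial.Equiv
import Mathlib.Algebra.Algebra.Rat

/-!
Newton correspondence between sequences `e` (elementary symmetric) and `p` (power sums) in any
commutative ring, the inverse over `ℚ`-algebras, and injectivity of power-sum substitutions.
-/

universe u v

open Finset

namespace Groth.Agent.Lambda

section Basic

variable {R : Type u} [CommRing R] {S : Type v} [CommRing S]

/-- The series with coefficients `e`. -/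
noncomputable def ser (e : ℕ → R) : PowerSeries R := PowerSeries.mk e

/-- Logarithmic derivative series of power sums `p`. -/
noncomputable def D (p : ℕ → R) : PowerSeries R := PowerSeries.mk fun n => (-1) ^ n * p (n + 1)

/-- Power sums attached to a sequence of elementary symmetric functions. -/
noncomputable def N (e : ℕ → R) : ℕ → R
  | 0 => 0
  | k + 1 => (-1) ^ k *
      PowerSeries.coeff k (PowerSeries.derivative R (ser e) * (ser e).invOfUnit 1)

/-- convolution -/
def conv (a b : ℕ → R) : ℕ → R := fun k => ∑ i ∈ range (k + 1), a i * b (k - i)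

theorem neg_one_pow_mul_self (k : ℕ) (x : R) : (-1 : R) ^ k * ((-1) ^ k * x) = x := by
  rw [← mul_assoc, ← mul_pow, neg_one_mul, neg_neg, one_pow, one_mul]

theorem constantCoeff_ser (e : ℕ → R) : PowerSeries.constantCoeff (ser e) = e 0 := by
  rw [ser, PowerSeries.constantCoeff_mk]

theorem ser_conv (a b : ℕ → R) : ser (conv a b) = ser a * ser b := by
  ext k
  rw [PowerSeries.coeff_mul, Finset.Nat.sum_antidiagonal_eq_sum_range_succ_mk]
  simp [ser, conv]

theorem derivative_ser {e : ℕ → R} (h : e 0 = 1) :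
    PowerSeries.derivative R (ser e) = ser e * D (N e) := by
  have h1 : D (N e) = PowerSeries.derivative R (ser e) * (ser e).invOfUnit 1 := by
    ext n
    rw [D, PowerSeries.coeff_mk, N, neg_one_pow_mul_self]
  rw [h1, mul_comm, mul_assoc, PowerSeries.invOfUnit_mul _ _ (by simp [constantCoeff_ser, h]), mul_one]

theorem N_eq_of_derivative {e p : ℕ → R} (h : e 0 = 1)
    (hd : PowerSeries.derivative R (ser e) = ser e * D p) {k : ℕ} (hk : 1 ≤ k) : N e k = p k := by
  obtain ⟨k, rfl⟩ := Nat.exists_eq_add_of_le' hk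
  rw [N, hd, mul_comm (ser e), mul_assoc, PowerSeries.mul_invOfUnit _ _ (by simp [constantCoeff_ser, h]),
    mul_one, D, PowerSeries.coeff_mk, neg_one_pow_mul_self]

theorem N_conv {a b : ℕ → R} (ha : a 0 = 1) (hb : b 0 = 1) {k : ℕ} (hk : 1 ≤ k) :
    N (conv a b) k = N a k + N b k := by
  refine N_eq_of_derivative (p := fun k => N a k + N b k) (by simp [conv, ha, hb]) ?_ hk
  have hD : D (fun k => N a k + N b k) = D (N a) + D (N b) := by
    ext n; simp [D, mul_add]
  rw [ser_conv, hD, Derivation.leibniz, derivative_ser ha, derivative_ser hb, smul_eq_mul, smul_eq_mul]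
  ring

/-- The Newton recursion, in coefficients. -/
theorem recursion {e p : ℕ → R}
    (hd : PowerSeries.derivative R (ser e) = ser e * D p) (n : ℕ) :
    e (n + 1) * ((n : R) + 1) = ∑ i ∈ range (n + 1), e i * ((-1) ^ (n - i) * p (n - i + 1)) := by
  have := congrArg (PowerSeries.coeff n) hd
  rw [PowerSeries.coeff_derivative, PowerSeries.coeff_mul,
    Finset.Nat.sum_antidiagonal_eq_sum_range_succ_mk] at this
  simpa [ser, D] using this

theorem derivative_iff {e p : ℕ → R} :
    PowerSeries.derivative R (ser e) = ser e * D p ↔ ∀ n,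
      e (n + 1) * ((n : R) + 1) = ∑ i ∈ range (n + 1), e i * ((-1) ^ (n - i) * p (n - i + 1)) := by
  refine ⟨fun hd => recursion hd, fun h => ?_⟩
  ext n
  rw [PowerSeries.coeff_derivative, PowerSeries.coeff_mul,
    Finset.Nat.sum_antidiagonal_eq_sum_range_succ_mk]
  simpa [ser, D] using h n

theorem N_congr {e e' : ℕ → R} (h : e 0 = 1) (h' : e' 0 = 1) :
    ∀ k, (∀ j, 1 ≤ j → j ≤ k → e j = e' j) → N e k = N e' k := by
  intro k
  induction k using Nat.strong_induction_on with
  | _ k ih =>
    intro hee
    match k with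
    | 0 => rfl
    | n + 1 =>
      have h1 := recursion (derivative_ser h) n
      have h2 := recursion (derivative_ser h') n
      rw [Finset.sum_range_succ'] at h1 h2
      have hs : ∀ i ∈ range n, e (i + 1) * ((-1) ^ (n - (i + 1)) * N e (n - (i + 1) + 1)) =
          e' (i + 1) * ((-1) ^ (n - (i + 1)) * N e' (n - (i + 1) + 1)) := by
        intro i hi
        rw [Finset.mem_range] at hi
        rw [hee (i + 1) (by omega) (by omega),
          ih (n - (i + 1) + 1) (by omega) fun j hj hj' => hee j hj (by omega)]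
      rw [Finset.sum_congr rfl hs, hee (n + 1) (by omega) le_rfl, h2] at h1
      have h3 := add_left_cancel h1
      simp only [h, h', one_mul, Nat.sub_zero] at h3
      have h4 := congrArg (fun z => (-1 : R) ^ n * z) h3
      simp only [neg_one_pow_mul_self] at h4
      exact h4.symm

theorem map_N (f : R →+* S) (e : ℕ → R) : ∀ k, f (N e k) = N (fun j => f (e j)) k
  | 0 => map_zero f
  | k + 1 => by
    have hs : PowerSeries.map f (ser e) = ser fun j => f (e j) := by ext n; simp [ser]
    have hd : PowerSeries.map f (PowerSeries.derivative R (ser e)) =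
        PowerSeries.derivative S (ser fun j => f (e j)) := by
      ext n; simp [PowerSeries.coeff_derivative, ser]
    have hi : PowerSeries.map f ((ser e).invOfUnit 1) =
        (ser fun j => f (e j)).invOfUnit 1 := by
      rw [← hs]
      ext n
      induction n using Nat.strong_induction_on with
      | _ n ih =>
        rw [PowerSeries.coeff_map, PowerSeries.coeff_invOfUnit, PowerSeries.coeff_invOfUnit]
        split_ifs with hn
        · simp
        · rw [map_mul, map_sum]
          simp only [inv_one, Units.val_one, map_neg, map_one, neg_mul, one_mul]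
          refine congrArg Neg.neg (Finset.sum_congr rfl fun x hx => ?_)
          by_cases hlt : x.2 < n
          · rw [if_pos hlt, if_pos hlt, map_mul, PowerSeries.coeff_map, ← ih _ hlt, PowerSeries.coeff_map]
          · rw [if_neg hlt, if_neg hlt, map_zero]
    rw [N, N, map_mul, map_pow, map_neg, map_one, ← PowerSeries.coeff_map, map_mul, hd, hi]

theorem esymm_zero' (s : Multiset R) : s.esymm 0 = 1 := by simp [Multiset.esymm]

theorem esymm_cons_eq (a : R) (s : Multiset R) :
    (fun k => (a ::ₘ s).esymm k) =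
      conv (fun k => if k = 0 then 1 else if k = 1 then a else 0) (fun k => s.esymm k) := by
  funext k
  match k with
  | 0 => simp [conv, esymm_zero']
  | n + 1 =>
    rw [conv, Finset.sum_range_succ', Finset.sum_eq_single 0]
    · simp only [zero_add, Nat.add_sub_cancel, Multiset.esymm, Multiset.powersetCard_cons,
        Multiset.map_add, Multiset.sum_add, Multiset.map_map, Function.comp_def, Multiset.prod_cons,
        Multiset.sum_map_mul_left]
      simp [Nat.sub_zero, add_comm]
    · intro i _ hi
      simp [hi]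
    · simp

theorem N_esymm (s : Multiset R) {k : ℕ} (hk : 1 ≤ k) :
    N (fun j => s.esymm j) k = (s.map (· ^ k)).sum := by
  induction s using Multiset.induction with
  | empty =>
    refine (N_eq_of_derivative (p := fun _ => (0 : R)) (esymm_zero' _) ?_ hk).trans (by simp)
    rw [derivative_iff]
    intro n
    simp [Multiset.esymm, Multiset.powersetCard_zero_right]
  | cons a s ih =>
    rw [esymm_cons_eq, N_conv (by simp) (esymm_zero' _) hk, ih, Multiset.map_cons, Multiset.sum_cons]
    congr 1
    refine N_eq_of_derivative (p := fun k => a ^ k) (by simp) ?_ hk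
    rw [derivative_iff]
    intro n
    match n with
    | 0 => simp
    | m + 1 =>
      rw [if_neg (by omega), if_neg (by omega), zero_mul, Finset.sum_range_succ',
        Finset.sum_range_succ']
      simp [pow_succ]
      ring

end Basic

section Rat

variable {S : Type v} [CommRing S] [Algebra ℚ S]

/-- Elementary symmetric functions from power sums. -/
noncomputable def E (p : ℕ → S) : ℕ → S
  | 0 => 1
  | n + 1 => algebraMap ℚ S (1 / ((n : ℚ) + 1)) *
      ∑ i : Fin (n + 1), E p i.1 * ((-1) ^ (n - i.1) * p (n - i.1 + 1))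
termination_by n => n
decreasing_by exact i.2

@[simp] theorem E_zero (p : ℕ → S) : E p 0 = 1 := by rw [E]

theorem inv_succ_mul (n : ℕ) :
    algebraMap ℚ S (1 / ((n : ℚ) + 1)) * ((n : S) + 1) = 1 := by
  have h : ((n : S) + 1) = algebraMap ℚ S ((n : ℚ) + 1) := by simp
  rw [h, ← map_mul, one_div, inv_mul_cancel₀ (by positivity), map_one]

theorem derivative_E (p : ℕ → S) :
    PowerSeries.derivative S (ser (E p)) = ser (E p) * D p := by
  rw [derivative_iff]
  intro n
  rw [E, mul_right_comm, inv_succ_mul, one_mul,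
    Fin.sum_univ_eq_sum_range (fun i => E p i * ((-1) ^ (n - i) * p (n - i + 1)))]

theorem N_E (p : ℕ → S) {k : ℕ} (hk : 1 ≤ k) : N (E p) k = p k :=
  N_eq_of_derivative (E_zero p) (derivative_E p) hk

theorem eq_of_N_eq {e e' : ℕ → S} (h : e 0 = 1) (h' : e' 0 = 1) :
    ∀ n, (∀ k, 1 ≤ k → k ≤ n → N e k = N e' k) → e n = e' n := by
  intro n
  induction n using Nat.strong_induction_on with
  | _ n ih =>
    intro hN
    match n with
    | 0 => rw [h, h']
    | m + 1 =>
      have h1 := recursion (derivative_ser h) m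
      have h2 := recursion (derivative_ser h') m
      have hs : ∑ i ∈ range (m + 1), e i * ((-1) ^ (m - i) * N e (m - i + 1)) =
          ∑ i ∈ range (m + 1), e' i * ((-1) ^ (m - i) * N e' (m - i + 1)) :=
        Finset.sum_congr rfl fun i hi => by
          rw [Finset.mem_range] at hi
          rw [ih i hi fun k hk hk' => hN k hk (by omega), hN (m - i + 1) (by omega) (by omega)]
      rw [hs, ← h2] at h1
      calc e (m + 1) = e (m + 1) * ((m : S) + 1) * algebraMap ℚ S (1 / ((m : ℚ) + 1)) := by
            rw [mul_assoc, mul_comm ((m : S) + 1), inv_succ_mul, mul_one]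
        _ = e' (m + 1) := by
            rw [h1, mul_assoc, mul_comm ((m : S) + 1), inv_succ_mul, mul_one]

theorem eq_E {e : ℕ → S} (h : e 0 = 1) (p : ℕ → S) (n : ℕ)
    (hp : ∀ k, 1 ≤ k → k ≤ n → N e k = p k) : e n = E p n :=
  eq_of_N_eq h (E_zero p) n fun k hk hk' => by rw [hp k hk hk', N_E p hk]

theorem E_congr {p q : ℕ → S} (n : ℕ) (h : ∀ k, 1 ≤ k → k ≤ n → p k = q k) : E p n = E q n :=
  eq_E (E_zero p) q n fun k hk hk' => by rw [N_E p hk, h k hk hk']

theorem E_N {e : ℕ → S} (h : e 0 = 1) (n : ℕ) : E (N e) n = e n :=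
  (eq_E h (N e) n fun _ _ _ => rfl).symm

theorem map_E {T : Type u} [CommRing T] [Algebra ℚ T] (f : S →+* T) (p : ℕ → S) (n : ℕ) :
    f (E p n) = E (fun k => f (p k)) n :=
  eq_E (e := fun j => f (E p j)) (by simp) _ n fun k hk _ => by rw [← map_N, N_E p hk]

theorem E_add (p q : ℕ → S) (n : ℕ) : E (fun k => p k + q k) n = conv (E p) (E q) n :=
  (eq_E (by simp [conv]) _ n fun k hk _ => by
    rw [N_conv (E_zero p) (E_zero q) hk, N_E p hk, N_E q hk]).symm

end Rat

section Injective

open MvPolynomial

/-- Extend a vector `v_1, …, v_n` to a sequence with `0`-th term `1`. -/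
def ext {R : Type u} [CommRing R] {n : ℕ} (v : Fin n → R) : ℕ → R := fun j =>
  if j = 0 then 1 else if h : j - 1 < n then v ⟨j - 1, h⟩ else 0

theorem ext_zero {R : Type u} [CommRing R] {n : ℕ} (v : Fin n → R) : ext v 0 = 1 := if_pos rfl

theorem ext_eq {R : Type u} [CommRing R] {n : ℕ} (v : Fin n → R) {j : ℕ} (hj : 1 ≤ j) (hj' : j ≤ n) :
    ext v j = v ⟨j - 1, by omega⟩ := by
  rw [ext, if_neg (by omega), dif_pos (by omega)]

theorem ext_succ {R : Type u} [CommRing R] {n : ℕ} (v : Fin n → R) (i : Fin n) :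
    ext v (i.1 + 1) = v i := by
  rw [ext_eq v (by omega) (by omega)]; rfl

/-- Elementary symmetric functions in one family of variables are independent. -/
theorem aeval_esymm_injective (R : Type u) [CommRing R] (n : ℕ) :
    Function.Injective (aeval (R := R) fun i : Fin n => esymm (Fin n) R (i.1 + 1)) := by
  intro p q h
  apply esymmAlgHom_injective R (σ := Fin n) (n := n) (by simp)
  apply Subtype.ext
  rw [esymmAlgHom_apply, esymmAlgHom_apply]
  exact h

/-- Substituting elementary symmetric functions in two families, as two successive substitutions. -/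
theorem sum_aeval_esymm (R : Type u) [CommRing R] (n : ℕ) (p : MvPolynomial (Fin n ⊕ Fin n) R) :
    sumAlgEquiv R (Fin n) (Fin n) (aeval (R := R) (Sum.elim
      (fun i : Fin n => rename Sum.inl (esymm (Fin n) R (i.1 + 1)))
      (fun i : Fin n => rename (Sum.inr : Fin n → Fin n ⊕ Fin n) (esymm (Fin n) R (i.1 + 1)))) p) =
    aeval (R := MvPolynomial (Fin n) R)
      (fun i : Fin n => esymm (Fin n) (MvPolynomial (Fin n) R) (i.1 + 1))
      (map (aeval (R := R) fun i : Fin n => esymm (Fin n) R (i.1 + 1)).toRingHom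
        (sumAlgEquiv R (Fin n) (Fin n) p)) := by
  let σe := fun i : Fin n => esymm (Fin n) R (i.1 + 1)
  -- first substitute in the right family, then in the left one
  let Φ₁ : MvPolynomial (Fin n) (MvPolynomial (Fin n) R) →ₐ[R]
      MvPolynomial (Fin n) (MvPolynomial (Fin n) R) :=
    mapAlgHom (aeval (R := R) σe)
  let Φ₂ := (aeval (R := MvPolynomial (Fin n) R)
    (fun i : Fin n => esymm (Fin n) (MvPolynomial (Fin n) R) (i.1 + 1))).restrictScalars R
  let e := sumAlgEquiv R (Fin n) (Fin n)
  have hr : ∀ i : Fin n, e (rename Sum.inl (esymm (Fin n) R (i.1 + 1))) =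
      esymm (Fin n) (MvPolynomial (Fin n) R) (i.1 + 1) := fun i => by
    rw [← AlgEquiv.coe_toAlgHom, ← AlgHom.comp_apply]
    simp [esymm, map_sum, map_prod, e]
  have hl : ∀ i : Fin n, e (rename (Sum.inr : Fin n → Fin n ⊕ Fin n) (esymm (Fin n) R (i.1 + 1))) =
      C (esymm (Fin n) R (i.1 + 1)) := fun i => by
    simp [esymm, map_sum, map_prod, e]
  have heq : e.toAlgHom.comp (aeval (R := R) (Sum.elim
      (fun i : Fin n => rename Sum.inl (esymm (Fin n) R (i.1 + 1)))
      (fun i : Fin n => rename (Sum.inr : Fin n → Fin n ⊕ Fin n) (esymm (Fin n) R (i.1 + 1))))) =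
      (Φ₂.comp Φ₁).comp e.toAlgHom := by
    refine MvPolynomial.algHom_ext fun z => ?_
    rcases z with i | i
    · simp only [AlgHom.comp_apply, aeval_X, Sum.elim_inl, AlgEquiv.coe_toAlgHom, hr]
      simp [e, Φ₁, Φ₂]
    · simp only [AlgHom.comp_apply, aeval_X, Sum.elim_inr, AlgEquiv.coe_toAlgHom, hl]
      simp [e, Φ₁, Φ₂, σe]
  exact AlgHom.congr_fun heq p

/-- Elementary symmetric functions in two families of variables are independent. -/
theorem aeval_esymm₂_injective (R : Type u) [CommRing R] (n : ℕ) :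
    Function.Injective (aeval (R := R) (Sum.elim
      (fun i : Fin n => rename Sum.inl (esymm (Fin n) R (i.1 + 1)))
      (fun i : Fin n => rename (Sum.inr : Fin n → Fin n ⊕ Fin n) (esymm (Fin n) R (i.1 + 1))))) := by
  intro p q hpq
  have := congrArg (sumAlgEquiv R (Fin n) (Fin n)) hpq
  rw [sum_aeval_esymm, sum_aeval_esymm] at this
  exact (sumAlgEquiv R (Fin n) (Fin n)).injective
    (map_injective _ (aeval_esymm_injective R n) (aeval_esymm_injective _ n this))

/-- Power sums `p_1, …, p_n` in `n` variables are independent over `ℚ`. -/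
theorem aeval_psum_injective (n : ℕ) :
    Function.Injective (aeval (R := ℚ) fun i : Fin n => psum (Fin n) ℚ (i.1 + 1)) := by
  let α : MvPolynomial (Fin n) ℚ →ₐ[ℚ] MvPolynomial (Fin n) ℚ :=
    aeval fun i => N (ext fun j => X j) (i.1 + 1)
  let β : MvPolynomial (Fin n) ℚ →ₐ[ℚ] MvPolynomial (Fin n) ℚ :=
    aeval fun i => E (ext fun j => X j) (i.1 + 1)
  have hβα : β.comp α = AlgHom.id ℚ _ := by
    refine MvPolynomial.algHom_ext fun i => ?_
    simp only [AlgHom.comp_apply, α, aeval_X, AlgHom.id_apply]
    change β.toRingHom (N _ _) = _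
    rw [map_N, N_congr (e' := E (ext fun j : Fin n => (X j : MvPolynomial (Fin n) ℚ)))
      (by simp [ext_zero]) (E_zero _) _ fun j hj hj' => ?_, N_E _ (by omega), ext_succ]
    rw [ext_eq _ hj (by omega)]
    simp only [AlgHom.toRingHom_eq_coe, RingHom.coe_coe, β, aeval_X]
    congr 1
    omega
  have hcomp : (aeval (R := ℚ) fun i : Fin n => psum (Fin n) ℚ (i.1 + 1)) =
      (aeval (R := ℚ) fun i : Fin n => esymm (Fin n) ℚ (i.1 + 1)).comp α := by
    refine MvPolynomial.algHom_ext fun i => ?_
    simp only [AlgHom.comp_apply, α, aeval_X]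
    change _ = (aeval (R := ℚ) fun i : Fin n => esymm (Fin n) ℚ (i.1 + 1)).toRingHom (N _ _)
    rw [map_N, N_congr (e' := fun j => ((univ : Finset (Fin n)).val.map
        (X : Fin n → MvPolynomial (Fin n) ℚ)).esymm j)
      (by simp [ext_zero]) (esymm_zero' _) _ fun j hj hj' => ?_, N_esymm _ (by omega)]
    · rw [psum, Finset.sum_eq_multiset_sum, Multiset.map_map]; rfl
    · rw [ext_eq _ hj (by omega)]
      simp only [AlgHom.toRingHom_eq_coe, RingHom.coe_coe, aeval_X]
      rw [esymm_eq_multiset_esymm]
      congr 1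
      omega
  rw [hcomp]
  exact (aeval_esymm_injective ℚ n).comp
    (Function.LeftInverse.injective (g := β) fun x => AlgHom.congr_fun hβα x)

/-- Power sums in two families of variables are independent over `ℚ`. -/
theorem aeval_psum₂_injective (n : ℕ) :
    Function.Injective (aeval (R := ℚ) (Sum.elim
      (fun i : Fin n => rename Sum.inl (psum (Fin n) ℚ (i.1 + 1)))
      (fun i : Fin n => rename (Sum.inr : Fin n → Fin n ⊕ Fin n) (psum (Fin n) ℚ (i.1 + 1))))) := by
  let u : Fin n → MvPolynomial (Fin n ⊕ Fin n) ℚ := fun j => X (Sum.inl j)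
  let w : Fin n → MvPolynomial (Fin n ⊕ Fin n) ℚ := fun j => X (Sum.inr j)
  let α : MvPolynomial (Fin n ⊕ Fin n) ℚ →ₐ[ℚ] MvPolynomial (Fin n ⊕ Fin n) ℚ :=
    aeval (Sum.elim (fun i => N (ext u) (i.1 + 1)) (fun i => N (ext w) (i.1 + 1)))
  let β : MvPolynomial (Fin n ⊕ Fin n) ℚ →ₐ[ℚ] MvPolynomial (Fin n ⊕ Fin n) ℚ :=
    aeval (Sum.elim (fun i => E (ext u) (i.1 + 1)) (fun i => E (ext w) (i.1 + 1)))
  have key : ∀ (f : Fin n → MvPolynomial (Fin n ⊕ Fin n) ℚ)
      (φ : MvPolynomial (Fin n ⊕ Fin n) ℚ →ₐ[ℚ] MvPolynomial (Fin n ⊕ Fin n) ℚ)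
      (g : ℕ → MvPolynomial (Fin n ⊕ Fin n) ℚ), g 0 = 1 →
      (∀ j : Fin n, φ (f j) = g (j.1 + 1)) → ∀ i : Fin n, φ (N (ext f) (i.1 + 1)) = N g (i.1 + 1) := by
    intro f φ g hg h i
    change φ.toRingHom (N _ _) = _
    rw [map_N]
    refine N_congr (by simp [ext_zero]) hg _ fun j hj hj' => ?_
    rw [ext_eq _ hj (by omega)]
    simp only [AlgHom.toRingHom_eq_coe, RingHom.coe_coe, h]
    congr 1
    omega
  have hβα : β.comp α = AlgHom.id ℚ _ := by
    refine MvPolynomial.algHom_ext fun z => ?_
    rcases z with i | i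
    · simp only [AlgHom.comp_apply, α, aeval_X, Sum.elim_inl, AlgHom.id_apply]
      rw [key u β (E (ext u)) (E_zero _) (fun j => by simp [β, u]) i, N_E _ (by omega), ext_succ]
    · simp only [AlgHom.comp_apply, α, aeval_X, Sum.elim_inr, AlgHom.id_apply]
      rw [key w β (E (ext w)) (E_zero _) (fun j => by simp [β, w]) i, N_E _ (by omega), ext_succ]
  set ε := aeval (R := ℚ) (Sum.elim
    (fun i : Fin n => rename Sum.inl (esymm (Fin n) ℚ (i.1 + 1)))
    (fun i : Fin n => rename (Sum.inr : Fin n → Fin n ⊕ Fin n) (esymm (Fin n) ℚ (i.1 + 1)))) with hε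
  have hcomp : aeval (R := ℚ) (Sum.elim
      (fun i : Fin n => rename Sum.inl (psum (Fin n) ℚ (i.1 + 1)))
      (fun i : Fin n => rename (Sum.inr : Fin n → Fin n ⊕ Fin n) (psum (Fin n) ℚ (i.1 + 1)))) =
      ε.comp α := by
    refine MvPolynomial.algHom_ext fun z => ?_
    rcases z with i | i
    · simp only [AlgHom.comp_apply, α, aeval_X, Sum.elim_inl]
      rw [key u ε (fun j => ((univ : Finset (Fin n)).val.map u).esymm j) (esymm_zero' _)
        (fun j => by rw [Finset.esymm_map_val]; simp [hε, u, esymm]) i, N_esymm _ (by omega)]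
      rw [psum, map_sum, Finset.sum_eq_multiset_sum, Multiset.map_map]
      simp only [map_pow, rename_X]
      rfl
    · simp only [AlgHom.comp_apply, α, aeval_X, Sum.elim_inr]
      rw [key w ε (fun j => ((univ : Finset (Fin n)).val.map w).esymm j) (esymm_zero' _)
        (fun j => by rw [Finset.esymm_map_val]; simp [hε, w, esymm]) i, N_esymm _ (by omega)]
      rw [psum, map_sum, Finset.sum_eq_multiset_sum, Multiset.map_map]
      simp only [map_pow, rename_X]
      rfl
  rw [hcomp]
  exact (aeval_esymm₂_injective ℚ n).comp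
    (Function.LeftInverse.injective (g := β) fun x => AlgHom.congr_fun hβα x)

end Injective

end Groth.Agent.Lambda
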